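import Groth.Agent.ArtinAtlas.QuotAtlas
import Groth.Agent.FlatMor2.FlatComp
import Groth.Agent.SpectralTopology.FpCancel

/-!
# A group whose classifying stack is algebraic is flat and locally of finite presentation
-/

set_option autoImplicit false
set_option backward.isDefEq.respectTransparency false
set_option backward.isDefEq.respectTransparency.types false
universe u

open CategoryTheory CategoryTheory.Limits AlgebraicGeometry Opposite AlgSp MonoidalCategory
open CategoryTheory.CartesianMonoidalCategory CategoryTheory.MonObj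
open Groth.StkBase Groth.AlgStBasic Groth.QuotStk

noncomputable section

namespace Groth.ArtinAtlas

theorem ringHom_flat_of_retract {A B C : Type u} [CommRing A] [CommRing B] [CommRing C]
    (f : A →+* C) (c : C →+* B) (d : B →+* C) (hd : d.comp c = RingHom.id C)
    (h : (c.comp f).Flat) : f.Flat := by
  algebraize [f, c, c.comp f]
  let i : C →ₗ[A] B := (IsScalarTower.toAlgHom A C B).toLinearMap
  let r : B →ₗ[A] C :=
    { toFun := d
      map_add' := d.map_add
      map_smul' := fun a b => by
        show d (a • b) = a • d b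
        rw [Algebra.smul_def, Algebra.smul_def, map_mul]
        exact congrArg (· * d b) (RingHom.congr_fun hd (f a)) }
  exact Module.Flat.of_retract i r (LinearMap.ext (RingHom.congr_fun hd))

/-- A map with a section is flat over a base as soon as the total space is. -/
theorem flat_of_section {Q U Z : Scheme.{u}} (p : Q ⟶ U) (v : U ⟶ Z) (s : U ⟶ Q)
    (hs : s ≫ p = 𝟙 U) [Flat (p ≫ v)] : Flat v := by
  rw [Flat.iff_flat_stalkMap]
  intro x
  have hx : p (s x) = x := by rw [← Scheme.Hom.comp_apply, hs]; rfl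
  suffices h : (v.stalkMap (p (s x))).hom.Flat by rwa [hx] at h
  have : IsIso (s ≫ p) := by rw [hs]; infer_instance
  have : IsIso ((p.stalkMap (s x)) ≫ s.stalkMap x) := by
    rw [← Scheme.Hom.stalkMap_comp]; infer_instance
  have h := Flat.stalkMap (p ≫ v) (s x)
  rw [Scheme.Hom.stalkMap_comp] at h
  refine ringHom_flat_of_retract _ (p.stalkMap (s x)).hom
    (s.stalkMap x ≫ inv (p.stalkMap (s x) ≫ s.stalkMap x)).hom ?_ h
  rw [← CommRingCat.hom_comp, ← Category.assoc, IsIso.hom_inv_id]
  rfl

/-- A locally trivial map has a section after one fppf surjective base change. -/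
theorem exists_fppf_section {T : Scheme.{u}} {P : Over T}
    (h : NonAbH1.IsLocallyTrivialFor Scheme.fppfPrecoverage P) :
    ∃ (T' : Scheme.{u}) (w : T' ⟶ T) (σ : T' ⟶ P.left), Flat w ∧ LocallyOfFinitePresentation w ∧
      Surjective w ∧ σ ≫ P.hom = w := by
  obtain ⟨R, hR, hs⟩ := h
  have h₁ := hR.1
  rw [Scheme.jointlySurjectivePrecoverage, Presieve.mem_comap_jointlySurjectivePrecoverage_iff] at h₁
  have hx : ∀ x : T, ∃ (V : Scheme.{u}) (f : V ⟶ T), R f ∧ x ∈ Set.range f := h₁
  choose V f hf y hy using hx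
  choose σ hσ using fun x => hs (f x) (hf x)
  have hP := fun x => hR.2 (hf x)
  have : ∀ x, Flat (f x) := fun x => (hP x).1
  have : ∀ x, LocallyOfFinitePresentation (f x) := fun x => (hP x).2
  refine ⟨∐ V, Sigma.desc f, Sigma.desc σ, inferInstance,
    IsZariskiLocalAtSource.sigmaDesc this, ⟨fun x => ⟨Sigma.ι V x (y x), ?_⟩⟩, ?_⟩
  · rw [← Scheme.Hom.comp_apply, Sigma.ι_desc]; exact hy x
  · ext x; simpa using hσ x

variable {S : Scheme.{u}} {G X : Over S} [GrpObj G] (aX : AlgGrp.Action G X)

local notation "Q₀" => AlgSt.QuotSt Scheme.fppfPrecoverage G aX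

/-- An atlas of a quotient stack gives a torsor smooth and surjective over the space divided. -/
theorem smooth_surjective_torsor_of_atlas {U : Over S} (y : FibCat.overCat U ⥤ᵇ Q₀)
    (hy : AlgSt.RepByAlgSpWith (LocP @Smooth) y) (hys : AlgSt.RepByAlgSpWith IsSurjectiveMor y) :
    Smooth (torsor y).φ.left ∧ Surjective (torsor y).φ.left := by
  have hgr := isFibGrpd_quotSt (aX := aX)
  let w : AlgSt.ofSch X ⥤ᵇ Q₀ := AlgSt.quotMap Scheme.fppfPrecoverage G aX
  let e : AlgSt.ofSch (torsor y).P ⥤ᵇ FibCat.fp w y :=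
    BasedFunctor.comp (BasedFunctor.comp (fibreFunctor y) (fpSwap y (atlas aX)))
      (fpPre (AlgSt.ofOverCat X) (BasedFunctor.id _) w y)
  have he : FibCat.IsEquivOver e :=
    isEquivOver_comp (isEquivOver_comp (isEquivOver_fibreFunctor y) (isEquivOver_fpSwap y (atlas aX)))
      (isEquivOver_fpPre (isEquivOver_ofOverCat X) (isEquivOver_id _) w y)
  obtain ⟨β⟩ := nonempty_iso_pshMapOf (BasedFunctor.comp e (FibCat.fpFst w y))
  have hp : pshMapOf (BasedFunctor.comp e (FibCat.fpFst w y)) = ((yon S).map (torsor y).φ).hom := by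
    ext T x
    show ((yon S).obj X).obj.map _ (⟨x.down ≫ (torsor y).φ⟩ : ULift _) = _
    exact (map_op_id ((yon S).obj X).obj _ rfl _).trans rfl
  rw [hp] at β
  have key : ∀ {P : MorphismProperty (Sp S)} [P.RespectsIso],
      AlgSt.RepByAlgSpWith P y → P ((yon S).map (torsor y).φ) := fun {P} _ hP => by
    have h := repBySpWith_of_repByAlgSpWith (a := ((yon S).map (torsor y).φ).hom)
      (repWith_of_iso β ((repWith_precomp_equiv he _).2 (repWith_fpFst y w hP)))
    obtain ⟨_, _, h'⟩ := h (𝟙 ((yon S).obj X).obj) (𝟙 _) ((yon S).map (torsor y).φ).hom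
      (IsPullback.id_horiz _)
    exact h'
  refine ⟨key hy (𝟙 _) (𝟙 _) _ (repWith_id _ _) (repWith_id _ _) (by simp),
    surjective_left_of_yon (key hys)⟩

theorem flat_lfp_of_isAlgStack_BG [IsAffineHom G.hom]
    (h : AlgSt.IsAlgStack Scheme.fppfPrecoverage (AlgSt.BG Scheme.fppfPrecoverage G)) :
    Flat G.hom ∧ LocallyOfFinitePresentation G.hom := by
  obtain ⟨U, y, hy, hys⟩ := h.atlas
  obtain ⟨hA₁, hA₂⟩ := smooth_surjective_torsor_of_atlas _ y hy hys
  let A := torsor y
  obtain ⟨T', w, σ, hw₁, hw₂, hw₃, hσ⟩ := exists_fppf_section A.loc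
  change σ ≫ A.π.left = w at hσ
  let U' : Over S := Over.mk (w ≫ A.base.hom)
  let σ' : U' ⟶ A.P := Over.homMk σ (by
    show σ ≫ A.P.hom = w ≫ A.base.hom
    rw [← Over.w A.π, ← Category.assoc, hσ])
  have hb := ((AlgSt.isPullback_whiskerLeft (G := G) σ').paste_horiz A.cart).map (Over.forget S)
  have hσ' : (σ' ≫ A.π).left = w := hσ
  change IsPullback _ _ A.π.left (σ' ≫ A.π).left at hb
  rw [hσ'] at hb
  let p : (G ⊗ U').left ⟶ U'.left := (snd G U').left
  let v : U'.left ⟶ S := U'.hom
  have hAP : A.P.hom = A.φ.left := (Over.w A.φ).symm.trans (Category.comp_id _)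
  have : Smooth A.P.hom := hAP ▸ hA₁
  have : Surjective A.P.hom := hAP ▸ hA₂
  have hfst := MorphismProperty.of_isPullback (P := @Flat) hb.flip hw₁
  have hfst' := MorphismProperty.of_isPullback (P := @LocallyOfFinitePresentation) hb.flip hw₂
  have hpv : p ≫ v = ((G ◁ σ') ≫ A.act.act).left ≫ A.P.hom :=
    (Over.w (snd G U')).trans (Over.w ((G ◁ σ') ≫ A.act.act)).symm
  have : Flat ((G ◁ σ') ≫ A.act.act).left := hfst
  have : LocallyOfFinitePresentation ((G ◁ σ') ≫ A.act.act).left := hfst'
  have : Flat (p ≫ v) := by rw [hpv]; infer_instance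
  have : LocallyOfFinitePresentation (p ≫ v) := by rw [hpv]; infer_instance
  let s : U'.left ⟶ (G ⊗ U').left := (unitSec G U').left
  have hs : s ≫ p = 𝟙 _ := congrArg CommaMorphism.left (unitSec_snd (G := G) U')
  have hvF : Flat v := flat_of_section p v s hs
  have : LocallyOfFiniteType p := locallyOfFiniteType_of_comp p v
  have : LocallyOfFinitePresentation (s ≫ p) := by rw [hs]; infer_instance
  have : LocallyOfFinitePresentation s := Groth.SpectralTopology.lfp_of_comp s p
  have hvL : LocallyOfFinitePresentation v := by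
    rw [← Category.id_comp v, ← hs, Category.assoc]; infer_instance
  have : Surjective (A.π.left ≫ A.base.hom) := by rw [Over.w A.π]; infer_instance
  have : Surjective A.base.hom := .of_comp A.π.left _
  have hvS : Surjective v := inferInstanceAs (Surjective (w ≫ A.base.hom))
  have hsq : IsPullback (fst G U').left p G.hom v := IsPullback.of_hasPullback G.hom U'.hom
  have : Flat (fst G U').left := MorphismProperty.of_isPullback hsq.flip hvF
  have : Surjective (fst G U').left := MorphismProperty.of_isPullback hsq.flip hvS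
  have : Flat ((fst G U').left ≫ G.hom) := by rw [hsq.w]; infer_instance
  have hf : Flat G.hom := Groth.FlatMor2.flat_of_comp_surjective (fst G U').left G.hom
  have hp : LocallyOfFinitePresentation p := by
    have : LocallyOfFiniteType v := inferInstance
    exact Groth.SpectralTopology.lfp_of_comp p v
  exact ⟨hf, MorphismProperty.of_isPullback_of_descendsAlong
    (Q := @Surjective ⊓ @Flat ⊓ @LocallyOfFinitePresentation) hsq.flip ⟨⟨hvS, hvF⟩, hvL⟩ hp⟩

end Groth.ArtinAtlas
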