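import Groth.Agent.ArtinAtlas.BGConverse
import Groth.Agent.AlgSp2.FppfSource
import Groth.Agent.Curves1.CurveMor.Smooth
import Groth.Prelude.Def_Red

/-!
# Classifying stacks of fppf affine groups over a field are smooth
-/

set_option autoImplicit false
set_option backward.isDefEq.respectTransparency false
set_option backward.isDefEq.respectTransparency.types false
universe u

open CategoryTheory CategoryTheory.Limits AlgebraicGeometry Opposite AlgSp MonoidalCategory
open CategoryTheory.CartesianMonoidalCategory CategoryTheory.MonObj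
open Groth.StkBase Groth.AlgStBasic Groth.QuotStk

noncomputable section

namespace Groth.ArtinAtlas

variable {S : Scheme.{u}}

theorem isEquivOver_toSelf_overCat_id :
    FibCat.IsEquivOver (FibCat.toSelf (FibCat.overCat (Over.mk (𝟙 S)))) := by
  refine isEquivOver_of_fullyFaithful _ ⟨fun {a b} g => ⟨Over.homMk g (Over.mkIdTerminal.hom_ext _ _), rfl⟩⟩
    ⟨fun {a b} f g e => Over.OverMorphism.ext e⟩ fun c => ?_
  exact ⟨Over.mk (Over.mkIdTerminal.from c), Iso.refl _, isVert_id _⟩

variable {k : Type u} [Field k] {G : Over (Spec (CommRingCat.of k))} [GrpObj G] [IsAffineHom G.hom]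
  [Flat G.hom] [LocallyOfFinitePresentation G.hom]

theorem locQ_smooth_BG :
    AlgSt.LocQ (LocP @Smooth) (FibCat.toSelf (AlgSt.BG Scheme.fppfPrecoverage G)) := by
  obtain ⟨U, y, hy, hys⟩ := hasAtlas_quotSt (AlgSt.trivAction G)
  obtain ⟨hA, -⟩ := smooth_surjective_torsor_of_atlas (AlgSt.trivAction G) y hy hys
  let V : Over (Spec (CommRingCat.of k)) := Over.mk (𝟙 _)
  refine ⟨U, V, y, FibCat.toSelf _, Over.mkIdTerminal.from U, selfIso _ _, hy, hys,
    repWith_of_isEquivOver (fun _ _ f _ _ h => Groth.AlgSpBasic.locP_of_repWith (P := @Smooth) (haveI := h; Groth.AlgSpBasic.repWith_isIso (P := @Smooth) f))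
      isEquivOver_toSelf_overCat_id, ?_⟩
  refine Groth.AlgSpBasic.locP_of_repWith ((repWith_yon_map_iff _ _).2 ?_)
  let A := torsor y
  have hAP : A.P.hom = A.φ.left := (Over.w A.φ).symm.trans (Category.comp_id _)
  have h₁ : Flat A.π.left := prop_π @Flat ‹_› A
  have h₂ : LocallyOfFinitePresentation A.π.left := prop_π @LocallyOfFinitePresentation ‹_› A
  have h₃ : Surjective A.π.left := prop_π @Surjective surjective_hom A
  have hAb : A.π.left ≫ A.base.hom = A.P.hom := Over.w A.π
  have : LocallyOfFiniteType (A.π.left ≫ A.base.hom) := by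
    rw [hAb, hAP]
    infer_instance
  let : A.P.left.Over (Spec (CommRingCat.of k)) := ⟨A.P.hom⟩
  let : A.base.left.Over (Spec (CommRingCat.of k)) := ⟨A.base.hom⟩
  have : LocallyOfFiniteType (A.base.left ↘ (Spec (CommRingCat.of k))) :=
    Groth.GitQuot.FppfSource.locallyOfFiniteType_of_fppf A.π.left A.base.hom
  have : Smooth (A.P.left ↘ (Spec (CommRingCat.of k))) := (hAP ▸ hA : Smooth A.P.hom)
  have hb : Smooth A.base.hom := Groth.Curves1.CurveMor.smooth_of_flat_surjective (k := k) (X := A.P.left) (Y := A.base.left) A.π.left hAb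
  rw [show (Over.mkIdTerminal.from U).left = U.hom from
    (Category.comp_id _).symm.trans (Over.w (Over.mkIdTerminal.from U))]
  exact torsor_base y ▸ hb

end Groth.ArtinAtlas
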