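import Mathlib

/-!
# The moduli ring of based algebras of rank `d`

Commutative algebra structures on `A^d` are given by structure constants. The universal ring of
structure constants `Base d` is of finite presentation over `ℤ`, carries the universal based algebra
`Univ d`, and every algebra with a basis of size `d` is a base change of it.
-/

set_option autoImplicit false
set_option backward.isDefEq.respectTransparency false
set_option backward.isDefEq.respectTransparency.types false
universe u

noncomputable section

namespace Groth.ArtinAtlas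

/-- The type of variables: structure constants and coordinates of the unit. -/
abbrev BAVar (d : ℕ) : Type := (Fin d × Fin d × Fin d) ⊕ Fin d

/-- The indices of the relations: commutativity, associativity, unit. -/
abbrev BARel (d : ℕ) : Type :=
  (Fin d × Fin d × Fin d) ⊕ (Fin d × Fin d × Fin d × Fin d) ⊕ (Fin d × Fin d)

/-- The relations of a commutative algebra with basis, evaluated at given constants. -/
def baRel {A : Type*} [CommRing A] {d : ℕ} (v : BAVar d → A) : BARel d → A :=
  Sum.elim (fun x => v (.inl (x.1, x.2.1, x.2.2)) - v (.inl (x.2.1, x.1, x.2.2)))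
    (Sum.elim
      (fun x => ∑ l, v (.inl (x.1, x.2.1, l)) * v (.inl (l, x.2.2.1, x.2.2.2)) -
        ∑ l, v (.inl (x.2.1, x.2.2.1, l)) * v (.inl (x.1, l, x.2.2.2)))
      (fun x => ∑ i, v (.inr i) * v (.inl (i, x.1, x.2)) - if x.1 = x.2 then 1 else 0))

theorem map_baRel {A B : Type*} [CommRing A] [CommRing B] (f : A →+* B) {d : ℕ} (v : BAVar d → A)
    (r : BARel d) : f (baRel v r) = baRel (f ∘ v) r := by
  rcases r with _ | _ | _ <;> simp [baRel, apply_ite f]

/-- Structure constants of a commutative algebra with a basis of size `d`. -/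
structure StrConst (d : ℕ) (A : Type u) [CommRing A] where
  /-- the constants -/
  v : BAVar d → A
  rel : ∀ r, baRel v r = 0

namespace StrConst

variable {d : ℕ} {A : Type u} [CommRing A] (s : StrConst d A)

/-- The algebra of given structure constants. -/
def Alg (_s : StrConst d A) : Type u := Fin d → A

instance : AddCommGroup (Alg s) := inferInstanceAs (AddCommGroup (Fin d → A))
instance : Module A (Alg s) := inferInstanceAs (Module A (Fin d → A))

/-- The standard basis. -/
def basis : Module.Basis (Fin d) A (Alg s) := Pi.basisFun A (Fin d)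

/-- Multiplication. -/
def mulB : Alg s →ₗ[A] Alg s →ₗ[A] Alg s :=
  s.basis.constr A fun i => s.basis.constr A fun j => (fun k => s.v (.inl (i, j, k)) : Fin d → A)

theorem mulB_basis (i j : Fin d) :
    s.mulB (s.basis i) (s.basis j) = ∑ k, s.v (.inl (i, j, k)) • s.basis k := by
  simp only [mulB, Module.Basis.constr_basis]
  exact (s.basis.sum_repr (fun k => s.v (.inl (i, j, k)) : Fin d → A)).symm

theorem mulB_comm (x y : Alg s) : s.mulB x y = s.mulB y x := by
  have : s.mulB = s.mulB.flip := by
    refine s.basis.ext fun i => s.basis.ext fun j => ?_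
    rw [LinearMap.flip_apply, mulB_basis, mulB_basis]
    refine Finset.sum_congr rfl fun k _ => ?_
    rw [sub_eq_zero.1 (s.rel (.inl (i, j, k)))]
  exact LinearMap.congr_fun₂ this x y

theorem mulB_assoc (x y z : Alg s) : s.mulB (s.mulB x y) z = s.mulB x (s.mulB y z) := by
  have key : ∀ (i j k : Fin d),
      s.mulB (s.mulB (s.basis i) (s.basis j)) (s.basis k) =
        s.mulB (s.basis i) (s.mulB (s.basis j) (s.basis k)) := by
    intro i j k
    simp only [mulB_basis, map_sum, map_smul, LinearMap.sum_apply, LinearMap.smul_apply,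
      Finset.smul_sum, smul_smul]
    rw [Finset.sum_comm]
    conv_rhs => rw [Finset.sum_comm]
    refine Finset.sum_congr rfl fun m _ => ?_
    rw [← Finset.sum_smul, ← Finset.sum_smul]
    congr 1
    exact sub_eq_zero.1 (s.rel (.inr (.inl (i, j, k, m))))
  have h₁ : ∀ i j, s.mulB (s.mulB (s.basis i) (s.basis j)) =
      (s.mulB (s.basis i)).comp (s.mulB (s.basis j)) := fun i j => s.basis.ext fun k => key i j k
  have h₂ : ∀ i, s.mulB.comp (s.mulB (s.basis i)) =
      ((s.mulB (s.basis i)).compRight A).comp s.mulB := fun i => s.basis.ext fun j => h₁ i j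
  have h₃ : ∀ i y z, s.mulB (s.mulB (s.basis i) y) z = s.mulB (s.basis i) (s.mulB y z) :=
    fun i y z => LinearMap.congr_fun (LinearMap.congr_fun (h₂ i) y) z
  rw [← s.basis.sum_repr x]
  simp only [map_sum, map_smul, LinearMap.sum_apply, LinearMap.smul_apply, h₃]

instance : One (Alg s) := ⟨(fun k => s.v (.inr k) : Fin d → A)⟩

theorem one_def : (1 : Alg s) = ∑ i, s.v (.inr i) • s.basis i :=
  (s.basis.sum_repr (1 : Alg s)).symm

theorem one_mulB (x : Alg s) : s.mulB 1 x = x := by
  have : s.mulB 1 = LinearMap.id := by
    refine s.basis.ext fun j => ?_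
    simp only [one_def, map_sum, map_smul, LinearMap.sum_apply, LinearMap.smul_apply, mulB_basis,
      Finset.smul_sum, smul_smul, LinearMap.id_apply]
    rw [Finset.sum_comm]
    simp only [← Finset.sum_smul]
    rw [Finset.sum_congr rfl fun k _ => by rw [sub_eq_zero.1 (s.rel (.inr (.inr (j, k))))]]
    simp
  exact LinearMap.congr_fun this x

instance commRing : CommRing (Alg s) where
  __ := (inferInstance : AddCommGroup (Alg s))
  mul x y := s.mulB x y
  left_distrib x := map_add (s.mulB x)
  right_distrib x y z := LinearMap.map_add₂ s.mulB x y z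
  zero_mul := LinearMap.map_zero₂ s.mulB
  mul_zero x := map_zero (s.mulB x)
  mul_assoc := s.mulB_assoc
  one_mul := s.one_mulB
  mul_one x := (s.mulB_comm x 1).trans (s.one_mulB x)
  mul_comm := s.mulB_comm

theorem mul_def (x y : Alg s) : x * y = s.mulB x y := rfl

instance algebra : Algebra A (Alg s) :=
  Algebra.ofModule (fun r x y => LinearMap.map_smul₂ s.mulB r x y) fun r x y => map_smul (s.mulB x) r y

/-- The structure constants of an algebra with basis. -/
def ofBasis {D : Type*} [CommRing D] [Algebra A D] (b : Module.Basis (Fin d) A D) : StrConst d A where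
  v := Sum.elim (fun x => b.repr (b x.1 * b x.2.1) x.2.2) (fun i => b.repr 1 i)
  rel r := by
    rcases r with ⟨i, j, k⟩ | ⟨i, j, k, m⟩ | ⟨j, k⟩
    · simp [baRel, mul_comm (b i)]
    · simp only [baRel, Sum.elim_inl, Sum.elim_inr]
      rw [sub_eq_zero]
      have h : ∀ (x : D) (y : D), b.repr (x * y) m = ∑ l, b.repr x l * b.repr (b l * y) m := by
        intro x y
        conv_lhs => rw [← b.sum_repr x, Finset.sum_mul]
        simp
      have e₁ := h (b i * b j) (b k)
      have e₂ : b.repr (b i * (b j * b k)) m = ∑ l, b.repr (b j * b k) l * b.repr (b i * b l) m := by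
        rw [mul_comm, h]
        simp [mul_comm (b i)]
      rw [← e₁, mul_assoc, e₂]
    · simp only [baRel, Sum.elim_inl, Sum.elim_inr]
      rw [sub_eq_zero]
      have : ∑ i, b.repr 1 i * b.repr (b i * b j) k = b.repr (1 * b j) k := by
        conv_rhs => rw [← b.sum_repr (1 : D), Finset.sum_mul]
        simp
      rw [this, one_mul, b.repr_self, Finsupp.single_apply]

end StrConst

variable (d : ℕ)

/-- The generic constants. -/
abbrev baVar₀ : BAVar d → MvPolynomial (BAVar d) (ULift.{u} ℤ) := MvPolynomial.X

/-- The universal ring of structure constants. -/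
def Base : Type u :=
  MvPolynomial (BAVar d) (ULift.{u} ℤ) ⧸ Ideal.span (Set.range (baRel (baVar₀.{u} d)))

instance : CommRing (Base.{u} d) := inferInstanceAs (CommRing (_ ⧸ _))
instance : Algebra (ULift.{u} ℤ) (Base.{u} d) := inferInstanceAs (Algebra _ (_ ⧸ _))

instance : Algebra.FinitePresentation (ULift.{u} ℤ) (Base.{u} d) :=
  Algebra.FinitePresentation.quotient (Submodule.fg_span (Set.finite_range _))

/-- The universal structure constants. -/
def univStr : StrConst d (Base.{u} d) where
  v i := Ideal.Quotient.mk _ (baVar₀ d i)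
  rel r := by
    refine (map_baRel (Ideal.Quotient.mk _) (baVar₀.{u} d) r).symm.trans ?_
    exact Ideal.Quotient.eq_zero_iff_mem.2 (Ideal.subset_span ⟨r, rfl⟩)

/-- The universal based algebra. -/
abbrev Univ : Type u := (univStr.{u} d).Alg

variable {d} {A : Type u} [CommRing A]

theorem base_hom_ext {θ θ' : Base.{u} d →+* A}
    (h : ∀ i, θ ((univStr d).v i) = θ' ((univStr d).v i)) : θ = θ' := by
  refine Ideal.Quotient.ringHom_ext (MvPolynomial.ringHom_ext (fun r => ?_) h)
  obtain ⟨n⟩ := r
  rw [show (⟨n⟩ : ULift.{u} ℤ) = ((n : ℤ) : ULift.{u} ℤ) from ULift.ext _ _ (by simp)]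
  simp

/-- The classifying map of structure constants. -/
def classify (s : StrConst d A) : Base.{u} d →+* A :=
  Ideal.Quotient.lift _ (MvPolynomial.eval₂Hom ((Int.castRingHom A).comp ULift.ringEquiv.toRingHom) s.v)
    (fun x hx => (Ideal.span_le.2 (fun y => by
      rintro ⟨r, rfl⟩
      show MvPolynomial.eval₂Hom ((Int.castRingHom A).comp ULift.ringEquiv.toRingHom) s.v (baRel _ r) = 0
      rw [map_baRel]
      convert s.rel r using 2
      funext i
      simp) : _ ≤ RingHom.ker _) hx)

theorem classify_var (s : StrConst d A) (i : BAVar d) : classify s ((univStr d).v i) = s.v i := by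
  show MvPolynomial.eval₂Hom _ s.v (MvPolynomial.X i) = s.v i
  simp

variable {D : Type u} [CommRing D] [Algebra A D]

/-- The classifying map of an algebra with basis is compatible with semilinear maps of algebras
carrying basis to basis. -/
theorem classify_map {A' D' : Type u} [CommRing A'] [CommRing D'] [Algebra A' D']
    (b : Module.Basis (Fin d) A D) (b' : Module.Basis (Fin d) A' D') (π : A →+* A') (ψ : D →+* D')
    (hπ : ψ.comp (algebraMap A D) = (algebraMap A' D').comp π) (hb : ∀ i, ψ (b i) = b' i) :
    π.comp (classify (.ofBasis b)) = classify (.ofBasis b') := by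
  have h : ∀ x i, π (b.repr x i) = b'.repr (ψ x) i := by
    intro x i
    conv_rhs => rw [← b.sum_repr x]
    simp only [Algebra.smul_def, map_sum, map_mul, hb]
    have : ∀ a, ψ (algebraMap A D a) = algebraMap A' D' (π a) := RingHom.congr_fun hπ
    simp only [this, ← Algebra.smul_def]
    rw [← map_sum, b'.repr_sum_self]
  refine base_hom_ext fun i => ?_
  rw [RingHom.comp_apply, classify_var, classify_var]
  rcases i with ⟨i, j, k⟩ | i
  · show π (b.repr (b i * b j) k) = b'.repr (b' i * b' j) k
    rw [h, map_mul, hb, hb]
  · show π (b.repr 1 i) = b'.repr 1 i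
    rw [h, map_one]

theorem ofBasis_basis_v (s : StrConst d A) : (StrConst.ofBasis s.basis).v = s.v := by
  funext i
  rcases i with ⟨i, j, k⟩ | i
  · show s.basis.repr (s.basis i * s.basis j) k = _
    rw [StrConst.mul_def, StrConst.mulB_basis, s.basis.repr_sum_self]
  · show s.basis.repr 1 i = _
    rw [StrConst.one_def, s.basis.repr_sum_self]

/-- The universal algebra has the identity as classifying map. -/
theorem classify_univ : classify (.ofBasis (univStr.{u} d).basis) = RingHom.id _ :=
  base_hom_ext fun i => by rw [classify_var, ofBasis_basis_v]; rfl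

/-- The classifying map of an algebra with a compatible map from the universal one. -/
theorem classify_eq (b : Module.Basis (Fin d) A D) (θ : Base.{u} d →+* A) (ψ : Univ.{u} d →+* D)
    (hψ : ψ.comp (algebraMap (Base.{u} d) (Univ.{u} d)) = (algebraMap A D).comp θ)
    (hb : ∀ i, ψ ((univStr d).basis i) = b i) : classify (.ofBasis b) = θ := by
  rw [← classify_map (univStr.{u} d).basis b θ ψ hψ hb, classify_univ, RingHom.comp_id]

variable [Algebra (Base.{u} d) A] [Algebra (Base.{u} d) D] [IsScalarTower (Base.{u} d) A D]

/-- An algebra with basis receives the universal algebra over its classifying map, as a base change. -/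
theorem exists_univ_map (b : Module.Basis (Fin d) A D)
    (h : algebraMap (Base.{u} d) A = classify (.ofBasis b)) :
    ∃ ψ : Univ.{u} d →ₐ[Base.{u} d] D,
      (∀ i, ψ ((univStr d).basis i) = b i) ∧ IsBaseChange A ψ.toLinearMap := by
  let l : Univ.{u} d →ₗ[Base.{u} d] D := Fintype.linearCombination (Base.{u} d) b
  have hl : ∀ i, l ((univStr d).basis i) = b i := fun i => by
    show Fintype.linearCombination (Base.{u} d) (⇑b) (Pi.basisFun (Base.{u} d) (Fin d) i) = b i
    simp
  have hθ : ∀ i, algebraMap (Base.{u} d) A ((univStr d).v i) = (StrConst.ofBasis b).v i := fun i => by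
    rw [h, classify_var]
  have hone : l 1 = 1 := by
    rw [StrConst.one_def, map_sum]
    conv_rhs => rw [← b.sum_repr (1 : D)]
    refine Finset.sum_congr rfl fun i _ => ?_
    rw [map_smul, hl, ← IsScalarTower.algebraMap_smul A, hθ]
    rfl
  have hmul₀ : ∀ i j, l ((univStr d).basis i * (univStr d).basis j) = b i * b j := fun i j => by
    rw [StrConst.mul_def, StrConst.mulB_basis, map_sum]
    conv_rhs => rw [← b.sum_repr (b i * b j)]
    refine Finset.sum_congr rfl fun k _ => ?_
    rw [map_smul, hl, ← IsScalarTower.algebraMap_smul A, hθ]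
    rfl
  have hmul : ∀ x y, l (x * y) = l x * l y := fun x y => by
    conv_lhs => rw [← (univStr d).basis.sum_repr x, ← (univStr d).basis.sum_repr y]
    conv_rhs => rw [← (univStr d).basis.sum_repr x, ← (univStr d).basis.sum_repr y]
    simp only [Finset.sum_mul, Finset.mul_sum, smul_mul_assoc, mul_smul_comm, map_sum, map_smul, hl,
      hmul₀]
  exact ⟨AlgHom.ofLinearMap l hone hmul, hl, IsBaseChange.of_fintype_basis (Base.{u} d) b⟩

end Groth.ArtinAtlas
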