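import Mathlib.AlgebraicGeometry.Morphisms.Flat
import Groth.Agent.Reductive.HomScheme.Global
import Groth.Prelude.Def_AlgGrp
import Mathlib.CategoryTheory.Monoidal.Cartesian.Grp

/-!
# The free action of a group on its points over a finite flat cover

For a finite flat surjective `π : Z ⟶ B` over `S` and an affine group scheme `G` over `S`, the
scheme `H` of pairs `(a : T ⟶ B, Z ×_B T ⟶ G)` carries the free action of `G` by translation.
-/

set_option autoImplicit false
set_option backward.isDefEq.respectTransparency false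
set_option backward.isDefEq.respectTransparency.types false
universe u

open CategoryTheory CategoryTheory.Limits AlgebraicGeometry MonoidalCategory MonObj
open CategoryTheory.CartesianMonoidalCategory

noncomputable section

namespace Groth.ArtinAtlas

variable {S : Scheme.{u}} {B : Over S} {Z : Scheme.{u}} (π : Z ⟶ B.left)

/-- The cover pulled back to a point of the base. -/
abbrev coverAt {T : Over S} (a : T ⟶ B) : Over S := Over.mk (pullback.snd π a.left ≫ T.hom)

/-- Its projection. -/
abbrev coverProj {T : Over S} (a : T ⟶ B) : coverAt π a ⟶ T := Over.homMk (pullback.snd π a.left) rfl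

/-- Functoriality in the point. -/
def coverMap {T T' : Over S} (k : T' ⟶ T) (a : T ⟶ B) (a' : T' ⟶ B) (h : k ≫ a = a') :
    coverAt π a' ⟶ coverAt π a :=
  Over.homMk (pullback.map π a'.left π a.left (𝟙 _) k.left (𝟙 _) (by simp) (by rw [← h]; simp))
    (by simp [pullback.map])

@[reassoc (attr := simp)]
theorem coverMap_proj {T T' : Over S} (k : T' ⟶ T) (a : T ⟶ B) (a' : T' ⟶ B) (h : k ≫ a = a') :
    coverMap π k a a' h ≫ coverProj π a = coverProj π a' ≫ k :=
  Over.OverMorphism.ext (pullback.lift_snd _ _ _)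

@[reassoc]
theorem coverMap_comp {T T' T'' : Over S} (k : T' ⟶ T) (l : T'' ⟶ T') (a : T ⟶ B) (a' : T' ⟶ B)
    (a'' : T'' ⟶ B) (h : k ≫ a = a') (h' : l ≫ a' = a'') :
    coverMap π l a' a'' h' ≫ coverMap π k a a' h =
      coverMap π (l ≫ k) a a'' (by rw [Category.assoc, h, h']) :=
  Over.OverMorphism.ext (pullback.hom_ext (by simp [coverMap]) (by simp [coverMap]))

theorem coverMap_congr {T T' : Over S} {k k' : T' ⟶ T} (e : k = k') (a : T ⟶ B) (a' : T' ⟶ B)
    (h : k ≫ a = a') : coverMap π k a a' h = coverMap π k' a a' (e ▸ h) := by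
  subst e
  rfl

variable (G : Over S)

/-- The scheme of morphisms from the cover to `G`. -/
structure HomRep where
  /-- the representing scheme -/
  obj : Over S
  /-- its point of the base -/
  p : obj ⟶ B
  /-- the universal morphism -/
  ev : coverAt π p ⟶ G
  affine : IsAffineHom p.left
  lfp : LocallyOfFinitePresentation G.hom → LocallyOfFinitePresentation p.left
  existsUnique : ∀ {T : Over S} (a : T ⟶ B) (ψ : coverAt π a ⟶ G),
    ∃! v : T ⟶ obj, ∃ h : v ≫ p = a, coverMap π v p a h ≫ ev = ψ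

theorem exists_homRep [IsFinite π] [Flat π] [LocallyOfFinitePresentation π] [IsAffineHom G.hom] :
    Nonempty (HomRep π G) := by
  let Y : Over B.left := Over.mk (pullback.snd G.hom B.hom)
  let X : Over B.left := Over.mk π
  have : IsFinite X.hom := ‹_›
  have : Flat X.hom := ‹_›
  have : LocallyOfFinitePresentation X.hom := ‹_›
  have : IsAffineHom Y.hom := MorphismProperty.pullback_snd _ _ ‹_›
  obtain ⟨M, ev, hM, hrep, -, hlfp⟩ := Groth.Reductive.HomScheme.exists_homScheme X Y
  have hev : ev.left ≫ pullback.snd G.hom B.hom = pullback.fst π M.hom ≫ π := Over.w ev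
  refine ⟨⟨Over.mk (M.hom ≫ B.hom), Over.homMk M.hom rfl,
    Over.homMk (ev.left ≫ pullback.fst G.hom B.hom) ?_, hM,
    fun h => hlfp (inferInstanceAs (LocallyOfFinitePresentation (pullback.snd G.hom B.hom))), ?_⟩⟩
  · change (ev.left ≫ pullback.fst G.hom B.hom) ≫ G.hom = pullback.snd π M.hom ≫ M.hom ≫ B.hom
    rw [Category.assoc, pullback.condition, reassoc_of% hev, pullback.condition_assoc]
  · intro T a ψ
    let T' : Over B.left := Over.mk a.left
    let φ : X ⊗ T' ⟶ Y := Over.homMk (pullback.lift ψ.left (pullback.snd π a.left ≫ a.left) (by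
        rw [Category.assoc, Over.w a, Over.w ψ]; rfl)) (by
      change pullback.lift _ _ _ ≫ pullback.snd G.hom B.hom = pullback.fst π a.left ≫ π
      rw [pullback.lift_snd, pullback.condition])
    obtain ⟨v, hv, hvu⟩ := hrep T' φ
    refine ⟨Over.homMk v.left (by
        change v.left ≫ M.hom ≫ B.hom = T.hom
        rw [Over.w_assoc v]
        exact Over.w a), ⟨Over.OverMorphism.ext (Over.w v), ?_⟩, ?_⟩
    · refine Over.OverMorphism.ext ?_
      have h := congrArg (fun z => z.left ≫ pullback.fst G.hom B.hom) hv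
      simp only [φ, Over.homMk_left, pullback.lift_fst, Over.comp_left, Category.assoc] at h
      rw [← h]
      simp only [coverMap, Over.comp_left, Over.homMk_left]
      refine congrArg (· ≫ ev.left ≫ pullback.fst G.hom B.hom) ?_
      refine pullback.hom_ext ?_ ?_
      · refine (pullback.lift_fst _ _ _).trans ?_
        refine (Category.comp_id _).trans ?_
        exact (congrArg CommaMorphism.left (whiskerLeft_fst X v)).symm
      · refine (pullback.lift_snd _ _ _).trans ?_
        exact (congrArg CommaMorphism.left (whiskerLeft_snd X v)).symm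
    · rintro v' ⟨h₁, h₂⟩
      have hw : v'.left ≫ M.hom = a.left := congrArg CommaMorphism.left h₁
      let v'' : T' ⟶ M := Over.homMk v'.left hw
      refine Over.OverMorphism.ext (congrArg CommaMorphism.left (hvu v'' ?_) :)
      refine Over.OverMorphism.ext (pullback.hom_ext ?_ ?_)
      · change ((X ◁ v'').left ≫ ev.left) ≫ pullback.fst G.hom B.hom = pullback.lift _ _ _ ≫ _
        rw [pullback.lift_fst, ← h₂]
        simp only [coverMap, Over.comp_left, Over.homMk_left, Category.assoc]
        refine congrArg (· ≫ ev.left ≫ pullback.fst G.hom B.hom) ?_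
        refine pullback.hom_ext ?_ ?_
        · refine (congrArg CommaMorphism.left (whiskerLeft_fst X v'')).trans ?_
          refine Eq.trans ?_ (pullback.lift_fst _ _ _).symm
          exact (Category.comp_id _).symm
        · refine (congrArg CommaMorphism.left (whiskerLeft_snd X v'')).trans ?_
          exact (pullback.lift_snd _ _ _).symm
      · exact (Over.w ((X ◁ v'') ≫ ev)).trans (Over.w φ).symm

namespace HomRep

variable {π G} (R : HomRep π G)

/-- The point with given data. -/
def mk' {T : Over S} (a : T ⟶ B) (ψ : coverAt π a ⟶ G) : T ⟶ R.obj :=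
  (R.existsUnique a ψ).exists.choose

@[reassoc (attr := simp)]
theorem mk'_p {T : Over S} (a : T ⟶ B) (ψ : coverAt π a ⟶ G) : R.mk' a ψ ≫ R.p = a :=
  (R.existsUnique a ψ).exists.choose_spec.1

theorem mk'_ev {T : Over S} (a : T ⟶ B) (ψ : coverAt π a ⟶ G) :
    coverMap π (R.mk' a ψ) R.p a (R.mk'_p a ψ) ≫ R.ev = ψ :=
  (R.existsUnique a ψ).exists.choose_spec.2

theorem hom_ext {T : Over S} {v v' : T ⟶ R.obj} (a : T ⟶ B) (h : v ≫ R.p = a) (h' : v' ≫ R.p = a)
    (e : coverMap π v R.p a h ≫ R.ev = coverMap π v' R.p a h' ≫ R.ev) : v = v' :=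
  (R.existsUnique a _).unique ⟨h, e⟩ ⟨h', rfl⟩

variable [GrpObj G]

/-- Translation. -/
def act : G ⊗ R.obj ⟶ R.obj :=
  R.mk' (snd G R.obj ≫ R.p) ((coverProj π _ ≫ fst G R.obj) * (coverMap π (snd G R.obj) R.p _ rfl ≫ R.ev))

theorem lift_act_p {T : Over S} (g : T ⟶ G) (h : T ⟶ R.obj) : lift g h ≫ R.act ≫ R.p = h ≫ R.p := by
  simp [act]

theorem act_ev {T : Over S} (g : T ⟶ G) (h : T ⟶ R.obj) (a : T ⟶ B) (ha : h ≫ R.p = a)
    (e : (lift g h ≫ R.act) ≫ R.p = a) :
    coverMap π (lift g h ≫ R.act) R.p a e ≫ R.ev =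
      (coverProj π a ≫ g) * (coverMap π h R.p a ha ≫ R.ev) := by
  have h₁ : lift g h ≫ snd G R.obj ≫ R.p = a := by simpa using ha
  rw [← coverMap_comp π R.act (lift g h) R.p (snd G R.obj ≫ R.p) a (R.mk'_p _ _) h₁, Category.assoc,
    show coverMap π R.act R.p (snd G R.obj ≫ R.p) (R.mk'_p _ _) ≫ R.ev = _ from R.mk'_ev _ _,
    MonObj.comp_mul, coverMap_proj_assoc, lift_fst, coverMap_comp_assoc]
  congr 2
  exact coverMap_congr π (lift_snd g h) _ _ _

theorem lift_act_mul {T : Over S} (g g' : T ⟶ G) (h : T ⟶ R.obj) :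
    lift (g * g') h ≫ R.act = lift g (lift g' h ≫ R.act) ≫ R.act := by
  have e₁ : (lift (g * g') h ≫ R.act) ≫ R.p = h ≫ R.p := by simpa using R.lift_act_p (g * g') h
  have e₂ : (lift g' h ≫ R.act) ≫ R.p = h ≫ R.p := by simpa using R.lift_act_p g' h
  have e₃ : (lift g (lift g' h ≫ R.act) ≫ R.act) ≫ R.p = h ≫ R.p := by
    rw [Category.assoc, R.lift_act_p]
    exact e₂
  refine R.hom_ext _ e₁ e₃ ?_
  rw [act_ev R (g * g') h _ rfl, act_ev R g _ _ e₂, act_ev R g' h _ rfl, MonObj.comp_mul, _root_.mul_assoc]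

theorem lift_act_one {T : Over S} (h : T ⟶ R.obj) : lift (1 : T ⟶ G) h ≫ R.act = h := by
  have e₁ : (lift (1 : T ⟶ G) h ≫ R.act) ≫ R.p = h ≫ R.p := by simpa using R.lift_act_p 1 h
  refine R.hom_ext _ e₁ rfl ?_
  rw [act_ev R 1 h _ rfl, MonObj.comp_one, _root_.one_mul]

/-- Translation is an action. -/
def action : AlgGrp.Action G R.obj where
  act := R.act
  one_act := by
    have h : lift (1 : 𝟙_ (Over S) ⊗ R.obj ⟶ G) (snd (𝟙_ (Over S)) R.obj) = η[G] ▷ R.obj := by
      ext : 1
      · simp [Hom.one_def, toUnit_unique (fst (𝟙_ (Over S)) R.obj) (toUnit _)]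
      · simp
    rw [← h, lift_act_one]
    simp [leftUnitor_hom]
  mul_act := by
    have h₁ : lift ((fst (G ⊗ G) R.obj ≫ fst G G) * (fst (G ⊗ G) R.obj ≫ snd G G))
        (snd (G ⊗ G) R.obj) = μ[G] ▷ R.obj := by
      ext : 1
      · simp [Hom.mul_def]
      · simp
    have h₂ : lift (fst (G ⊗ G) R.obj ≫ fst G G)
        (lift (fst (G ⊗ G) R.obj ≫ snd G G) (snd (G ⊗ G) R.obj) ≫ R.act) =
        (α_ G G R.obj).hom ≫ (G ◁ R.act) := by
      ext : 1
      · simp
      · simp only [lift_snd, Category.assoc, whiskerLeft_snd]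
        rw [← Category.assoc (α_ G G R.obj).hom]
        congr 1
        ext : 1 <;> simp
    rw [← h₁, lift_act_mul, h₂, Category.assoc]

/-- Translation is free as the cover is an fppf surjection. -/
theorem free [Flat π] [Surjective π] {T : Over S} (g : T ⟶ G) (h : T ⟶ R.obj)
    (e : lift g h ≫ R.act = h) : g = 1 := by
  have e₁ : (lift g h ≫ R.act) ≫ R.p = h ≫ R.p := by rw [e]
  have := act_ev R g h _ rfl e₁
  rw [coverMap_congr π e _ _ e₁, right_eq_mul, ← MonObj.comp_one (coverProj π (h ≫ R.p))] at this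
  refine Over.OverMorphism.ext ?_
  have : Epi (pullback.snd π (h ≫ R.p).left) := Flat.epi_of_flat_of_surjective _
  exact (cancel_epi (pullback.snd π (h ≫ R.p).left)).1 (congrArg CommaMorphism.left ‹coverProj π (h ≫ R.p) ≫ g = coverProj π (h ≫ R.p) ≫ 1›)

end HomRep

end Groth.ArtinAtlas
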