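import Mathlib
import Groth.Agent.ArtinAtlas.BasedAlgebra
import Groth.Agent.ArtinAtlas.HomAction

/-!
# The scheme of based algebras over a base scheme and points of the hom-scheme over it

Over an affine chart of the base, a point of the scheme of morphisms from the universal based
algebra to an affine group is a based algebra with an algebra map from the coordinate ring.
-/

set_option autoImplicit false
set_option backward.isDefEq.respectTransparency false
set_option backward.isDefEq.respectTransparency.types false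
universe u

open CategoryTheory CategoryTheory.Limits AlgebraicGeometry

noncomputable section

namespace Groth.ArtinAtlas

variable (d : ℕ) (S : Scheme.{u})

/-- The spectrum of the universal structure constants. -/
abbrev baseSpec : Scheme.{u} := Spec (.of (Base.{u} d))

/-- The structure map to the spectrum of the integers. -/
abbrev baseSpecTo : baseSpec.{u} d ⟶ Spec (.of (ULift.{u} ℤ)) :=
  Spec.map (CommRingCat.ofHom (algebraMap (ULift.{u} ℤ) (Base.{u} d)))

/-- The structure map of the universal algebra. -/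
abbrev univTo : Spec (.of (Univ.{u} d)) ⟶ baseSpec.{u} d :=
  Spec.map (CommRingCat.ofHom (algebraMap (Base.{u} d) (Univ.{u} d)))

/-- The scheme of based algebras of rank `d` over `S`. -/
abbrev bScheme : Over S :=
  Over.mk (pullback.fst (specULiftZIsTerminal.from S) (baseSpecTo d))

/-- Its map to the spectrum of the universal constants. -/
abbrev bCoord : (bScheme d S).left ⟶ baseSpec.{u} d :=
  pullback.snd (specULiftZIsTerminal.from S) (baseSpecTo d)

/-- The universal cover. -/
abbrev zScheme : Scheme.{u} := pullback (univTo d) (bCoord d S)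

/-- Its structure map. -/
abbrev zπ : zScheme d S ⟶ (bScheme d S).left := pullback.snd (univTo d) (bCoord d S)

instance : Module.Free (Base.{u} d) (Univ.{u} d) := Module.Free.of_basis (univStr d).basis
instance : Module.Finite (Base.{u} d) (Univ.{u} d) := Module.Finite.of_basis (univStr d).basis

instance : Algebra.FinitePresentation (Base.{u} d) (Univ.{u} d) :=
  (Module.FinitePresentation.iff_finitePresentation_of_finite _ _).1
    (Module.finitePresentation_of_projective _ _)

instance : IsFinite (univTo.{u} d) :=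
  (IsFinite.SpecMap_iff _).2 (RingHom.finite_algebraMap.2 inferInstance)

instance : Flat (univTo.{u} d) :=
  (HasRingHomProperty.Spec_iff (P := @Flat)).2 (RingHom.flat_algebraMap_iff.2 inferInstance)

instance : LocallyOfFinitePresentation (univTo.{u} d) :=
  (HasRingHomProperty.Spec_iff (P := @LocallyOfFinitePresentation)).2
    (RingHom.finitePresentation_algebraMap.2 inferInstance)

instance surjective_univTo : Surjective (univTo.{u} (d + 1)) := by
  refine ⟨fun x => ?_⟩
  have : Nontrivial (Base.{u} (d + 1)) := x.nontrivial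
  have : Nontrivial (Univ.{u} (d + 1)) := inferInstanceAs (Nontrivial (Fin (d + 1) → Base.{u} (d + 1)))
  exact PrimeSpectrum.comap_surjective_of_faithfullyFlat (A := Base.{u} (d + 1)) (B := Univ.{u} (d + 1)) x

instance : IsFinite (zπ d S) := MorphismProperty.pullback_snd _ _ inferInstance
instance : Flat (zπ d S) := MorphismProperty.pullback_snd _ _ inferInstance
instance : LocallyOfFinitePresentation (zπ d S) := MorphismProperty.pullback_snd _ _ inferInstance
instance : Surjective (zπ (d + 1) S) := MorphismProperty.pullback_snd _ _ inferInstance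

instance : IsAffineHom (bScheme d S).hom :=
  MorphismProperty.pullback_fst _ _ (inferInstanceAs (IsAffineHom (baseSpecTo d)))

instance : LocallyOfFinitePresentation (bScheme d S).hom :=
  MorphismProperty.pullback_fst _ _ ((HasRingHomProperty.Spec_iff (P := @LocallyOfFinitePresentation)).2
    (RingHom.finitePresentation_algebraMap.2 inferInstance))

section Points

variable {d S} {G : Over S} (H : HomRep (zπ d S) G)
variable {R C : Type u} [CommRing R] [CommRing C] [Algebra R C]
  (jU : Spec (.of R) ⟶ S) (jG : Spec (.of C) ⟶ G.left)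

/-- The object over the base of an algebra over the chart. -/
abbrev chartObj (A : Type u) [CommRing A] [Algebra R A] : Over S :=
  Over.mk (Spec.map (CommRingCat.ofHom (algebraMap R A)) ≫ jU)

variable {A : Type u} [CommRing A] [Algebra R A]

/-- The coordinate of a cover point in the universal algebra. -/
abbrev coverCoord {T : Over S} (a : T ⟶ bScheme d S) :
    (coverAt (zπ d S) a).left ⟶ Spec (.of (Univ.{u} d)) :=
  pullback.fst (zπ d S) a.left ≫ pullback.fst (univTo d) (bCoord d S)

theorem isPullback_coverCoord {T : Over S} (a : T ⟶ bScheme d S) :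
    IsPullback (coverCoord a) (pullback.snd (zπ d S) a.left) (univTo d) (a.left ≫ bCoord d S) :=
  (IsPullback.of_hasPullback (zπ d S) a.left).paste_horiz (IsPullback.of_hasPullback (univTo d) (bCoord d S))

theorem coverMap_coord {T T' : Over S} (k : T' ⟶ T) (a : T ⟶ bScheme d S) (a' : T' ⟶ bScheme d S)
    (h : k ≫ a = a') : (coverMap (zπ d S) k a a' h).left ≫ coverCoord a = coverCoord a' := by
  simp [coverMap]

theorem coverMap_snd {T T' : Over S} (k : T' ⟶ T) (a : T ⟶ bScheme d S) (a' : T' ⟶ bScheme d S)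
    (h : k ≫ a = a') : (coverMap (zπ d S) k a a' h).left ≫ pullback.snd (zπ d S) a.left =
      pullback.snd (zπ d S) a'.left ≫ k.left := by
  simp [coverMap]

/-- A point of the hom-scheme over a chart corresponds to a based algebra with a map from the
coordinate ring of the group. -/
def IsPt (h : chartObj jU A ⟶ H.obj) {D : Type u} [CommRing D] [Algebra R D] [Algebra A D]
    (b : Module.Basis (Fin d) A D) (φ : C →ₐ[R] D) : Prop :=
  (h ≫ H.p).left ≫ bCoord d S = Spec.map (CommRingCat.ofHom (classify (.ofBasis b))) ∧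
  ∀ (χ : Univ.{u} d →+* D),
    χ.comp (algebraMap (Base.{u} d) (Univ.{u} d)) = (algebraMap A D).comp (classify (.ofBasis b)) →
    (∀ i, χ ((univStr d).basis i) = b i) →
    ∀ j : Spec (.of D) ⟶ (coverAt (zπ d S) (h ≫ H.p)).left,
      j ≫ coverCoord (h ≫ H.p) = Spec.map (CommRingCat.ofHom χ) →
      j ≫ pullback.snd (zπ d S) (h ≫ H.p).left = Spec.map (CommRingCat.ofHom (algebraMap A D)) →
      j ≫ (coverMap (zπ d S) h H.p _ rfl ≫ H.ev).left = Spec.map (CommRingCat.ofHom φ.toRingHom) ≫ jG

variable {D : Type u} [CommRing D] [Algebra R D] [Algebra A D]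

omit [Algebra R D] in
/-- The universal map to an algebra with basis, as a pushout square. -/
theorem exists_chi (b : Module.Basis (Fin d) A D) :
    ∃ χ : Univ.{u} d →+* D,
      χ.comp (algebraMap (Base.{u} d) (Univ.{u} d)) = (algebraMap A D).comp (classify (.ofBasis b)) ∧
      (∀ i, χ ((univStr d).basis i) = b i) ∧
      IsPullback (Spec.map (CommRingCat.ofHom χ)) (Spec.map (CommRingCat.ofHom (algebraMap A D)))
        (univTo d) (Spec.map (CommRingCat.ofHom (classify (.ofBasis b)))) := by
  letI : Algebra (Base.{u} d) A := (classify (.ofBasis b)).toAlgebra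
  letI : Algebra (Base.{u} d) D := ((algebraMap A D).comp (classify (.ofBasis b))).toAlgebra
  haveI : IsScalarTower (Base.{u} d) A D := .of_algebraMap_eq' rfl
  obtain ⟨ψ, hψ, hbc⟩ := exists_univ_map b rfl
  letI : Algebra (Univ.{u} d) D := ψ.toRingHom.toAlgebra
  haveI : IsScalarTower (Base.{u} d) (Univ.{u} d) D := .of_algebraMap_eq' ψ.comp_algebraMap.symm
  haveI : Algebra.IsPushout (Base.{u} d) A (Univ.{u} d) D :=
    ⟨by convert hbc using 1; exact LinearMap.ext fun _ => rfl⟩
  refine ⟨ψ.toRingHom, ψ.comp_algebraMap, hψ, ?_⟩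
  haveI : Algebra.IsPushout (Base.{u} d) (Univ.{u} d) A D := Algebra.IsPushout.symm inferInstance
  exact isPullback_SpecMap_of_isPushout _ _ _ _
    (CommRingCat.isPushout_of_isPushout (Base.{u} d) (Univ.{u} d) A D)

omit [Algebra R A] [Algebra R D] in
/-- The universal map is determined by the basis. -/
theorem chi_ext (θ : Base.{u} d →+* A) {χ χ' : Univ.{u} d →+* D}
    (h : χ.comp (algebraMap (Base.{u} d) (Univ.{u} d)) = (algebraMap A D).comp θ)
    (h' : χ'.comp (algebraMap (Base.{u} d) (Univ.{u} d)) = (algebraMap A D).comp θ)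
    (e : ∀ i, χ ((univStr d).basis i) = χ' ((univStr d).basis i)) : χ = χ' := by
  refine RingHom.ext fun x => ?_
  rw [← (univStr d).basis.sum_repr x]
  simp only [map_sum, Algebra.smul_def, map_mul, e]
  refine Finset.sum_congr rfl fun i _ => ?_
  rw [show χ (algebraMap _ _ _) = _ from RingHom.congr_fun h _,
    show χ' (algebraMap _ _ _) = _ from RingHom.congr_fun h' _]

omit [Algebra R D] in
/-- The comparison of the spectrum of the algebra with the cover at a point. -/
theorem exists_cover_iso (b : Module.Basis (Fin d) A D) (a : chartObj jU A ⟶ bScheme d S)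
    (ha : a.left ≫ bCoord d S = Spec.map (CommRingCat.ofHom (classify (.ofBasis b)))) :
    ∃ (χ : Univ.{u} d →+* D) (j : Spec (.of D) ≅ (coverAt (zπ d S) a).left),
      χ.comp (algebraMap (Base.{u} d) (Univ.{u} d)) = (algebraMap A D).comp (classify (.ofBasis b)) ∧
      (∀ i, χ ((univStr d).basis i) = b i) ∧
      j.hom ≫ coverCoord a = Spec.map (CommRingCat.ofHom χ) ∧
      j.hom ≫ pullback.snd (zπ d S) a.left = Spec.map (CommRingCat.ofHom (algebraMap A D)) := by
  obtain ⟨χ, h₁, h₂, hsq⟩ := exists_chi b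
  have hsq' := isPullback_coverCoord a
  rw [ha] at hsq'
  exact ⟨χ, hsq.isoIsPullback _ _ hsq', h₁, h₂, hsq.isoIsPullback_hom_fst _ _ hsq',
    hsq.isoIsPullback_hom_snd _ _ hsq'⟩

variable [IsScalarTower R A D]
variable (hG : IsPullback jG (Spec.map (CommRingCat.ofHom (algebraMap R C))) G.hom jU)

include hG in
/-- Every based algebra with a map gives a point. -/
theorem exists_isPt (b : Module.Basis (Fin d) A D) (φ : C →ₐ[R] D) :
    ∃ h : chartObj jU A ⟶ H.obj, IsPt H jU jG h b φ := by
  let θ := CommRingCat.ofHom (classify (.ofBasis b))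
  let a : chartObj jU A ⟶ bScheme d S := Over.homMk (pullback.lift (chartObj jU A).hom (Spec.map θ)
    (specULiftZIsTerminal.hom_ext _ _)) (pullback.lift_fst _ _ _)
  have ha : a.left ≫ bCoord d S = Spec.map θ := pullback.lift_snd _ _ _
  obtain ⟨χ, j, hχ₁, hχ₂, hj₁, hj₂⟩ := exists_cover_iso jU b a ha
  let ψ : coverAt (zπ d S) a ⟶ G := Over.homMk (j.inv ≫ Spec.map (CommRingCat.ofHom φ.toRingHom) ≫ jG) (by
    rw [Category.assoc, Category.assoc, hG.w, ← Spec.map_comp_assoc, ← CommRingCat.ofHom_comp,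
      show φ.toRingHom.comp (algebraMap R C) = algebraMap R D from φ.comp_algebraMap, Iso.inv_comp_eq]
    change _ = j.hom ≫ pullback.snd (zπ d S) a.left ≫ _
    rw [reassoc_of% hj₂]
    change _ = Spec.map (CommRingCat.ofHom (algebraMap A D)) ≫ Spec.map _ ≫ jU
    rw [← Spec.map_comp_assoc, ← CommRingCat.ofHom_comp, ← IsScalarTower.algebraMap_eq])
  refine ⟨H.mk' a ψ, ⟨by rw [H.mk'_p]; exact ha, ?_⟩⟩
  have key : ∀ a' (e : H.mk' a ψ ≫ H.p = a') (χ' : Univ.{u} d →+* D), χ' = χ →
      ∀ j' : Spec (.of D) ⟶ (coverAt (zπ d S) a').left,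
      j' ≫ coverCoord a' = Spec.map (CommRingCat.ofHom χ') →
      j' ≫ pullback.snd (zπ d S) a'.left = Spec.map (CommRingCat.ofHom (algebraMap A D)) →
      j' ≫ (coverMap (zπ d S) (H.mk' a ψ) H.p a' e ≫ H.ev).left =
        Spec.map (CommRingCat.ofHom φ.toRingHom) ≫ jG := by
    intro a' e χ' hχ' j' h₁ h₂
    obtain rfl : a = a' := (H.mk'_p a ψ).symm.trans e
    subst hχ'
    have : j' = j.hom := (isPullback_coverCoord a).hom_ext (h₁.trans hj₁.symm) (h₂.trans hj₂.symm)
    rw [this, H.mk'_ev a ψ]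
    exact j.hom_inv_id_assoc _
  exact fun χ' h₁ h₂ j' => key _ rfl χ' (chi_ext _ h₁ hχ₁ fun i => (h₂ i).trans (hχ₂ i).symm) j'

variable {H jU jG}

omit [IsScalarTower R A D] in
/-- The point is determined by its data. -/
theorem IsPt.unique {h h' : chartObj jU A ⟶ H.obj} {b : Module.Basis (Fin d) A D} {φ : C →ₐ[R] D}
    (P : IsPt H jU jG h b φ) (P' : IsPt H jU jG h' b φ) : h = h' := by
  have e : h ≫ H.p = h' ≫ H.p := Over.OverMorphism.ext (pullback.hom_ext
    ((Over.w (h ≫ H.p)).trans (Over.w (h' ≫ H.p)).symm) (P.1.trans P'.1.symm))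
  refine H.hom_ext (h ≫ H.p) rfl e.symm (Over.OverMorphism.ext ?_)
  obtain ⟨χ, j, hχ₁, hχ₂, hj₁, hj₂⟩ := exists_cover_iso jU b (h ≫ H.p) P.1
  rw [← cancel_epi j.hom, P.2 χ hχ₁ hχ₂ j.hom hj₁ hj₂]
  have key : ∀ a' (e : h' ≫ H.p = a'),
      (∀ (χ : Univ.{u} d →+* D), χ.comp (algebraMap (Base.{u} d) (Univ.{u} d)) =
          (algebraMap A D).comp (classify (.ofBasis b)) → (∀ i, χ ((univStr d).basis i) = b i) →
        ∀ j : Spec (.of D) ⟶ (coverAt (zπ d S) a').left,
          j ≫ coverCoord a' = Spec.map (CommRingCat.ofHom χ) →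
          j ≫ pullback.snd (zπ d S) a'.left = Spec.map (CommRingCat.ofHom (algebraMap A D)) →
          j ≫ (coverMap (zπ d S) h' H.p a' e ≫ H.ev).left =
            Spec.map (CommRingCat.ofHom φ.toRingHom) ≫ jG) := by
    intro a' e
    subst e
    exact P'.2
  exact (key _ e.symm χ hχ₁ hχ₂ j.hom hj₁ hj₂).symm

omit [IsScalarTower R A D] in
/-- Points are compatible with change of algebra. -/
theorem IsPt.map {h : chartObj jU A ⟶ H.obj} {b : Module.Basis (Fin d) A D} {φ : C →ₐ[R] D}
    (P : IsPt H jU jG h b φ) {A' D' : Type u} [CommRing A'] [Algebra R A'] [CommRing D'] [Algebra R D']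
    [Algebra A' D'] (π : A →ₐ[R] A') (ψ : D →+* D') (b' : Module.Basis (Fin d) A' D')
    (φ' : C →ₐ[R] D') (hπ : ψ.comp (algebraMap A D) = (algebraMap A' D').comp π.toRingHom)
    (hb : ∀ i, ψ (b i) = b' i) (hφ : ∀ c, ψ (φ c) = φ' c) (k : chartObj jU A' ⟶ chartObj jU A)
    (hk : k.left = Spec.map (CommRingCat.ofHom π.toRingHom)) : IsPt H jU jG (k ≫ h) b' φ' := by
  have hθ := classify_map b b' π.toRingHom ψ hπ hb
  refine ⟨?_, fun χ' h₁ h₂ j' hj'₁ hj'₂ => ?_⟩
  · rw [Category.assoc, Over.comp_left, Category.assoc, P.1, hk, ← hθ, ← Spec.map_comp,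
      ← CommRingCat.ofHom_comp]
  · obtain ⟨χ, j, hχ₁, hχ₂, hj₁, hj₂⟩ := exists_cover_iso jU b (h ≫ H.p) P.1
    have hχ' : χ' = ψ.comp χ := chi_ext _ h₁ (by
      rw [RingHom.comp_assoc, hχ₁, ← RingHom.comp_assoc, hπ, RingHom.comp_assoc, hθ]) fun i => by
        rw [h₂, RingHom.comp_apply, hχ₂, hb]
    let t := coverMap (zπ d S) k (h ≫ H.p) ((k ≫ h) ≫ H.p) (Category.assoc _ _ _).symm
    have hjj : j' ≫ t.left = Spec.map (CommRingCat.ofHom ψ) ≫ j.hom := by
      refine (isPullback_coverCoord _).hom_ext ?_ ?_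
      · rw [Category.assoc j', Category.assoc (Spec.map _), hj₁, ← Spec.map_comp, ← CommRingCat.ofHom_comp,
          ← hχ']
        exact (congrArg (j' ≫ ·) (coverMap_coord k _ _ _)).trans hj'₁
      · rw [Category.assoc j', Category.assoc (Spec.map _), hj₂, ← Spec.map_comp, ← CommRingCat.ofHom_comp, hπ,
          CommRingCat.ofHom_comp, Spec.map_comp, ← hk, ← hj'₂, Category.assoc j']
        exact congrArg (j' ≫ ·) (coverMap_snd k _ _ _)
    have hsplit : coverMap (zπ d S) (k ≫ h) H.p _ rfl = t ≫ coverMap (zπ d S) h H.p (h ≫ H.p) rfl :=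
      (coverMap_comp _ _ _ _ _ _ _ _).symm
    rw [hsplit, Category.assoc t, Over.comp_left, reassoc_of% hjj, P.2 χ hχ₁ hχ₂ j.hom hj₁ hj₂,
      ← Spec.map_comp_assoc, ← CommRingCat.ofHom_comp]
    congr 3
    exact RingHom.ext hφ

variable (H jU) in
include hG in
/-- Every point has data. -/
theorem exists_data (h : chartObj jU A ⟶ H.obj) :
    ∃ (D : Type u) (_ : CommRing D) (_ : Algebra R D) (_ : Algebra A D) (_ : IsScalarTower R A D)
      (b : Module.Basis (Fin d) A D) (φ : C →ₐ[R] D), IsPt H jU jG h b φ := by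
  obtain ⟨θ, hθ⟩ := Spec.map_surjective ((h ≫ H.p).left ≫ bCoord d S)
  letI : Algebra (Base.{u} d) A := θ.hom.toAlgebra
  suffices key : ∀ (D : Type u) [CommRing D] [Algebra A D] (b : Module.Basis (Fin d) A D)
      (incl : Univ.{u} d →+* D),
      incl.comp (algebraMap (Base.{u} d) (Univ.{u} d)) = (algebraMap A D).comp θ.hom →
      (∀ i, incl ((univStr d).basis i) = b i) →
      ∃ (D : Type u) (_ : CommRing D) (_ : Algebra R D) (_ : Algebra A D) (_ : IsScalarTower R A D)
      (b : Module.Basis (Fin d) A D) (φ : C →ₐ[R] D), IsPt H jU jG h b φ from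
    key (TensorProduct (Base.{u} d) A (Univ.{u} d)) (Algebra.TensorProduct.basis A (univStr d).basis)
      Algebra.TensorProduct.includeRight.toRingHom
      (Algebra.TensorProduct.includeRight (R := Base.{u} d) (A := A) (B := Univ.{u} d)).comp_algebraMap
      fun i => by simp
  intro D _ _ b incl hincl hbi
  letI : Algebra R D := ((algebraMap A D).comp (algebraMap R A)).toAlgebra
  haveI : IsScalarTower R A D := .of_algebraMap_eq' rfl
  have hcl : classify (.ofBasis b) = θ.hom := classify_eq b θ.hom incl hincl hbi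
  have hP1 : (h ≫ H.p).left ≫ bCoord d S = Spec.map (CommRingCat.ofHom (classify (.ofBasis b))) := by
    rw [hcl, ← hθ]; rfl
  obtain ⟨χ, j, hχ₁, hχ₂, hj₁, hj₂⟩ := exists_cover_iso jU b (h ≫ H.p) hP1
  let e := coverMap (zπ d S) h H.p _ rfl ≫ H.ev
  have hw : (j.hom ≫ e.left) ≫ G.hom =
      Spec.map (CommRingCat.ofHom (algebraMap R D)) ≫ jU := by
    rw [Category.assoc, Over.w e]
    change j.hom ≫ pullback.snd (zπ d S) (h ≫ H.p).left ≫ _ = _
    rw [reassoc_of% hj₂]
    change Spec.map _ ≫ Spec.map _ ≫ jU = _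
    rw [← Spec.map_comp_assoc, ← CommRingCat.ofHom_comp, ← IsScalarTower.algebraMap_eq]
  obtain ⟨φ₀, hφ₀⟩ := Spec.map_surjective (hG.lift (j.hom ≫ e.left) _ hw)
  let φ : C →ₐ[R] D :=
    { φ₀.hom with
      commutes' := fun r => by
        have := hG.lift_snd (j.hom ≫ e.left) _ hw
        rw [← hφ₀, ← Spec.map_comp] at this
        exact congr($(Spec.map_injective this).hom r) }
  refine ⟨D, inferInstance, inferInstance, inferInstance, inferInstance, b, φ, hP1,
    fun χ' h₁ h₂ j' hj'₁ hj'₂ => ?_⟩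
  have hχ' : χ' = χ := chi_ext _ h₁ hχ₁ fun i => (h₂ i).trans (hχ₂ i).symm
  subst hχ'
  have hjj : j' = j.hom :=
    (isPullback_coverCoord _).hom_ext (hj'₁.trans hj₁.symm) (hj'₂.trans hj₂.symm)
  rw [hjj]
  exact (hG.lift_fst (j.hom ≫ e.left) _ hw).symm.trans (congrArg (· ≫ jG) hφ₀.symm)

include hG in
/-- Data of a point map to the data of its images. -/
theorem IsPt.exists_map {h : chartObj jU A ⟶ H.obj} {b : Module.Basis (Fin d) A D} {φ : C →ₐ[R] D}
    (P : IsPt H jU jG h b φ) {A' D' : Type u} [CommRing A'] [Algebra R A'] [CommRing D'] [Algebra R D']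
    [Algebra A' D'] [IsScalarTower R A' D'] (π : A →ₐ[R] A') (b' : Module.Basis (Fin d) A' D')
    (φ' : C →ₐ[R] D') (k : chartObj jU A' ⟶ chartObj jU A)
    (hk : k.left = Spec.map (CommRingCat.ofHom π.toRingHom)) (P' : IsPt H jU jG (k ≫ h) b' φ') :
    ∃ ψ : D →+* D', ψ.comp (algebraMap A D) = (algebraMap A' D').comp π.toRingHom ∧
      (∀ i, ψ (b i) = b' i) ∧ ∀ c, ψ (φ c) = φ' c := by
  obtain ⟨χ, j, hχ₁, hχ₂, hj₁, hj₂⟩ := exists_cover_iso jU b (h ≫ H.p) P.1
  obtain ⟨χ', j', hχ'₁, hχ'₂, hj'₁, hj'₂⟩ := exists_cover_iso jU b' ((k ≫ h) ≫ H.p) P'.1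
  let t := coverMap (zπ d S) k (h ≫ H.p) ((k ≫ h) ≫ H.p) (Category.assoc _ _ _).symm
  obtain ⟨ψ, hψ⟩ := Spec.map_surjective (j'.hom ≫ t.left ≫ j.inv)
  have hψj : Spec.map ψ ≫ j.hom = j'.hom ≫ t.left := by simp [hψ]
  have e₁ : ψ.hom.comp χ = χ' := by
    have := congrArg (· ≫ coverCoord (h ≫ H.p)) hψj
    simp only [Category.assoc, hj₁] at this
    rw [coverMap_coord k, hj'₁,
      ← Spec.map_comp] at this
    exact congr($(Spec.map_injective this).hom)
  have e₂ : ψ.hom.comp (algebraMap A D) = (algebraMap A' D').comp π.toRingHom := by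
    have := congrArg (· ≫ pullback.snd (zπ d S) (h ≫ H.p).left) hψj
    simp only [Category.assoc, hj₂] at this
    rw [coverMap_snd k,
      reassoc_of% hj'₂, hk, ← Spec.map_comp, ← Spec.map_comp] at this
    exact congr($(Spec.map_injective this).hom)
  refine ⟨ψ.hom, e₂, fun i => ?_, fun c => ?_⟩
  · rw [← hχ₂, ← hχ'₂, ← e₁]
    rfl
  · have hsplit : coverMap (zπ d S) (k ≫ h) H.p _ rfl = t ≫ coverMap (zπ d S) h H.p (h ≫ H.p) rfl :=
      (coverMap_comp _ _ _ _ _ _ _ _).symm
    have := P'.2 χ' hχ'₁ hχ'₂ j'.hom hj'₁ hj'₂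
    rw [hsplit, Category.assoc t, Over.comp_left, ← reassoc_of% hψj, P.2 χ hχ₁ hχ₂ j.hom hj₁ hj₂,
      ← Spec.map_comp_assoc] at this
    have h1 : Spec.map (CommRingCat.ofHom φ.toRingHom ≫ ψ) = Spec.map (CommRingCat.ofHom φ'.toRingHom) := by
      refine hG.hom_ext this ?_
      rw [← Spec.map_comp, ← Spec.map_comp]
      congr 1
      apply CommRingCat.hom_ext
      change (ψ.hom.comp φ.toRingHom).comp (algebraMap R C) = φ'.toRingHom.comp (algebraMap R C)
      rw [RingHom.comp_assoc, show φ.toRingHom.comp (algebraMap R C) = algebraMap R D from φ.comp_algebraMap,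
        show φ'.toRingHom.comp (algebraMap R C) = algebraMap R D' from φ'.comp_algebraMap]
      rw [IsScalarTower.algebraMap_eq R A D, ← RingHom.comp_assoc, e₂, RingHom.comp_assoc,
        show π.toRingHom.comp (algebraMap R A) = algebraMap R A' from π.comp_algebraMap,
        ← IsScalarTower.algebraMap_eq]
    exact congr($(Spec.map_injective h1).hom c)

end Points

end Groth.ArtinAtlas
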