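import Groth.Agent.AlgStBasic.DiagOfAtlas
import Groth.Agent.AlgStBasic.LocQBase
import Groth.Agent.AlgStBasic.Permanence
import Groth.Agent.FppfBoot.Bootstrap

/-!
# An fppf cover by a space makes the diagonal representable
-/

set_option autoImplicit false
set_option backward.isDefEq.respectTransparency false
set_option backward.isDefEq.respectTransparency.types false

universe u

open CategoryTheory CategoryTheory.Limits AlgebraicGeometry Opposite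
open Groth.StkBase Groth.AlgStBasic

namespace Groth.ArtinAtlas

variable {S : Scheme.{u}} {𝒳 : AlgSt.Cat S}

/-- A stack in setoids with an fppf cover by a space is an algebraic space. -/
theorem repByAlgSp_of_setoid_fppf_cover (hS : FibCat.IsFibSetoid 𝒳.p)
    (hst : Stk.IsStack (AlgSp.J S) 𝒳) (W : AlgSp.Space S) (w : AlgSt.ofSp W.obj ⥤ᵇ 𝒳)
    (h₁ : AlgSt.RepByAlgSpWith (AlgSp.LocP @Flat) w)
    (h₂ : AlgSt.RepByAlgSpWith (AlgSp.LocP @LocallyOfFinitePresentation) w)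
    (h₃ : AlgSt.RepByAlgSpWith AlgSp.IsSurjectiveMor w) :
    AlgSt.RepByAlgSp 𝒳 := by
  obtain ⟨P, e, he⟩ := exists_ofPsh_equiv hS
  have hP : Presheaf.IsSheaf (AlgSp.J S) P :=
    (isSheaf_iff_isSheaf_of_type _ _).2 ((isStack_ofPsh_iff P (AlgSp.J S)).1
      ((isStack_iff_of_isEquivOver (AlgSp.J S) he).2 hst))
  obtain ⟨e', he', -, ⟨b⟩⟩ := isEquivOver_symm he
  let F : AlgSp.Sp S := ⟨P, hP⟩
  let ξ : W.obj.obj ⟶ P := pshMapOf (BasedFunctor.comp w e')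
  obtain ⟨β⟩ := nonempty_iso_pshMapOf (BasedFunctor.comp w e')
  have key : ∀ {Q : MorphismProperty (AlgSp.Sp S)} [Q.RespectsIso],
      AlgSt.RepByAlgSpWith Q w → AlgSp.RepBySpWith Q ξ := fun {Q} _ h =>
    repBySpWith_of_repByAlgSpWith (repWith_of_iso β ((repWith_postcomp_equiv w he').2 h))
  have hp : AlgSp.RepBySpWith (Groth.AlgSpFppf.FppfMor S) (ObjectProperty.homMk ξ : W.obj ⟶ F).hom := by
    intro V η F' fst snd sq
    obtain ⟨h, hA, ha⟩ := key h₃ η fst snd sq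
    obtain ⟨h', hA', hb⟩ := key h₁ η fst snd sq
    obtain ⟨h'', hA'', hc⟩ := key h₂ η fst snd sq
    exact ⟨h, hA, ⟨ha, hb⟩, hc⟩
  exact ⟨⟨F, Groth.FppfBoot.isAlgSpace_of_fppf_cover hp⟩, e, he⟩

variable {𝒴 : AlgSt.Cat S}

/-- An fppf cover of a stack by a space makes the diagonal representable. -/
theorem repByAlgSp1_diag_of_fppf_cover (hst : Stk.IsStack (AlgSp.J S) 𝒴)
    (W : AlgSp.Space S) (u : AlgSt.ofSp W.obj ⥤ᵇ 𝒴)
    (hu₁ : AlgSt.RepByAlgSpWith (AlgSp.LocP @Flat) u)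
    (hu₂ : AlgSt.RepByAlgSpWith (AlgSp.LocP @LocallyOfFinitePresentation) u)
    (hu₃ : AlgSt.RepByAlgSpWith AlgSp.IsSurjectiveMor u) :
    AlgSt.RepByAlgSp1 (FibCat.diag (FibCat.toSelf 𝒴)) := by
  rw [repByAlgSp1_diag_iff hst.1]
  intro U₂ x₂ U₁ x₁
  have hW := isFibGrpd_ofSp W.obj
  have hWs : AlgSt.RepByAlgSp (AlgSt.ofSp W.obj) :=
    ⟨W, BasedFunctor.id _, isEquivOver_id _⟩
  have hset : FibCat.IsFibSetoid (FibCat.fp x₁ x₂).p :=
    fp_isFibSetoid (isFibSetoid_of_repByAlgSp (repByAlgSp_overCat U₁))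
      (isFibSetoid_of_repByAlgSp (repByAlgSp_overCat U₂)) hst.1
  let p := FibCat.fpFst x₁ u
  have hT₁ : AlgSt.RepByAlgSp (FibCat.fp x₁ u) := repWith_repByAlgSp1 hu₁ U₁ x₁
  have hT₂ : AlgSt.RepByAlgSp (FibCat.fp u x₂) :=
    repByAlgSp_of_equiv (isEquivOver_fpSwap x₂ u) (repWith_repByAlgSp1 hu₁ U₂ x₂)
  have h₁ : AlgSt.RepByAlgSp (FibCat.fp (FibCat.fpSnd x₁ u) (FibCat.fpFst u x₂)) :=
    repByAlgSp_fp (isFibGrpd_fp hW (isFibGrpd_overCat U₂) hst.1) hW _ _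
      (repByAlgSp1_of_repByAlgSp hT₂ hWs _) hT₁
  have h₂ : AlgSt.RepByAlgSp (FibCat.fp (BasedFunctor.comp p x₁) x₂) :=
    repByAlgSp_of_equiv (isEquivOver_fpCongr (FibCat.fpIso x₁ u).symm (Iso.refl x₂))
      (repByAlgSp_of_equiv (isEquivOver_fpPaste (FibCat.fpSnd x₁ u) u x₂) h₁)
  obtain ⟨F, e, he⟩ := h₂
  exact repByAlgSp_of_setoid_fppf_cover hset
    (isStack_fp (AlgSp.J S) (isStack_of_repByAlgSp (repByAlgSp_overCat U₁))
      (isStack_of_repByAlgSp (repByAlgSp_overCat U₂)) (isPrestack_of_isStack hst)) F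
    (BasedFunctor.comp e (fpPre p (BasedFunctor.id _) x₁ x₂))
    ((repWith_precomp_equiv he _).2 (repWith_fpPre_left p x₁ x₂ (repWith_fpFst u x₁ hu₁)))
    ((repWith_precomp_equiv he _).2 (repWith_fpPre_left p x₁ x₂ (repWith_fpFst u x₁ hu₂)))
    ((repWith_precomp_equiv he _).2 (repWith_fpPre_left p x₁ x₂ (repWith_fpFst u x₁ hu₃)))

end Groth.ArtinAtlas
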