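import Mathlib

/-!
# A finite quotient cut out by a regular sequence

A non zero algebra of finite type over a field has a non zero finite quotient cut out by a weakly
regular sequence.
-/

set_option autoImplicit false
universe u

open RingTheory.Sequence

namespace Groth.ArtinAtlas

/-- Either all maximal ideals are associated, so the ring is of dimension zero, or some regular
element is not a unit. -/
theorem krullDimLE_zero_or_exists_regular (Q : Type u) [CommRing Q] [IsNoetherianRing Q]
    [IsJacobsonRing Q] : Ring.KrullDimLE 0 Q ∨ ∃ a : Q, IsSMulRegular Q a ∧ ¬ IsUnit a := by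
  classical
  refine or_iff_not_imp_right.2 fun h => Ring.KrullDimLE.mk₀ fun P hP => ?_
  let A := (associatedPrimes.finite Q Q).toFinset
  have hmax : ∀ m : Ideal Q, m.IsMaximal → m ∈ A := by
    intro m hm
    have hsub : (m : Set Q) ⊆ ⋃ p ∈ (A : Set (Ideal Q)), (p : Set Q) := fun x hx => by
      simp only [A, Set.Finite.coe_toFinset, biUnion_associatedPrimes_eq_compl_regular]
      exact fun hx' => h ⟨x, hx', fun hu => hm.ne_top (Ideal.eq_top_of_isUnit_mem _ hx hu)⟩
    obtain ⟨p, hp, hmp⟩ := (Ideal.subset_union_prime (f := fun p => p) ⊤ ⊤ fun p hp _ _ =>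
      IsAssociatedPrime.isPrime ((Set.Finite.mem_toFinset _).1 hp)).1 hsub
    rwa [hm.eq_of_le (IsAssociatedPrime.isPrime ((Set.Finite.mem_toFinset _).1 hp)).ne_top hmp]
  have hJ : P.jacobson = P := IsJacobsonRing.out' P hP.isRadical
  obtain ⟨m, hm, hle⟩ : ∃ m ∈ A.filter fun m => P ≤ m ∧ m.IsMaximal, (fun p => p) m ≤ P := by
    refine (Ideal.IsPrime.inf_le' hP).1 ?_
    conv_rhs => rw [← hJ]
    exact le_sInf fun m hm => Finset.inf_le (Finset.mem_filter.2 ⟨hmax m hm.2, hm⟩)
  have hPm := (Finset.mem_filter.1 hm).2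
  exact (le_antisymm hle hPm.1 : m = P) ▸ hPm.2

variable (K : Type u) [Field K] (C : Type u) [CommRing C] [Algebra K C] [Algebra.FiniteType K C]

/-- A non zero algebra of finite type over a field has a non zero finite quotient cut out by a weakly
regular sequence. -/
theorem exists_finite_regular_quotient [Nontrivial C] :
    ∃ f : List C, IsWeaklyRegular C f ∧ Module.Finite K (C ⧸ Ideal.ofList f) ∧
      Nontrivial (C ⧸ Ideal.ofList f) := by
  haveI : IsNoetherianRing C := Algebra.FiniteType.isNoetherianRing K C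
  suffices key : ∀ J : Ideal C, J ≠ ⊤ → ∀ f : List C, Ideal.ofList f = J → IsWeaklyRegular C f →
      ∃ f : List C, IsWeaklyRegular C f ∧ Module.Finite K (C ⧸ Ideal.ofList f) ∧
      Nontrivial (C ⧸ Ideal.ofList f) from
    key ⊥ bot_ne_top [] (Ideal.ofList_nil) (IsWeaklyRegular.nil C C)
  intro J
  induction J using (wellFounded_gt (α := Ideal C)).induction with
  | h J ih =>
    intro hJ f hf hreg
    subst hf
    haveI : Algebra.FiniteType K (C ⧸ Ideal.ofList f) :=
      .of_surjective (Ideal.Quotient.mkₐ K _) Ideal.Quotient.mk_surjective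
    haveI : Nontrivial (C ⧸ Ideal.ofList f) := Ideal.Quotient.nontrivial_iff.2 hJ
    haveI : IsJacobsonRing (C ⧸ Ideal.ofList f) :=
      isJacobsonRing_of_finiteType (A := K)
    rcases krullDimLE_zero_or_exists_regular (C ⧸ Ideal.ofList f) with hd | ⟨a, ha, hu⟩
    · exact ⟨f, hreg, (Module.finite_iff_krullDimLE_zero K _).2 hd, inferInstance⟩
    obtain ⟨a, rfl⟩ := Ideal.Quotient.mk_surjective a
    have ha' : IsSMulRegular (C ⧸ Ideal.ofList f) a := fun x y h => ha (by
      simpa [Algebra.smul_def] using h)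
    have hreg' : IsWeaklyRegular C (f ++ [a]) := by
      refine (isWeaklyRegular_append_iff C f [a]).2 ⟨hreg, (isWeaklyRegular_singleton_iff _ a).2 ?_⟩
      have e : (Ideal.ofList f • ⊤ : Submodule C C) = Ideal.ofList f := by
        rw [smul_eq_mul, Ideal.mul_top]
      exact ((Submodule.quotEquivOfEq _ _ e).isSMulRegular_congr a).2 ha'
    have hsup : Ideal.ofList (f ++ [a]) = Ideal.ofList f ⊔ Ideal.span {a} := by
      rw [Ideal.ofList_append, Ideal.ofList_singleton]
    refine ih (Ideal.ofList (f ++ [a])) (lt_of_le_of_ne (hsup ▸ le_sup_left) fun he => ?_) ?_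
      (f ++ [a]) rfl hreg'
    · have : a ∈ Ideal.ofList f := he ▸ hsup ▸ Ideal.mem_sup_right (Ideal.mem_span_singleton_self a)
      rw [Ideal.Quotient.eq_zero_iff_mem.2 this] at ha
      exact zero_ne_one (ha (show (0 : C ⧸ Ideal.ofList f) • (0 : C ⧸ Ideal.ofList f) =
        (0 : C ⧸ Ideal.ofList f) • 1 by simp))
    · rw [hsup]
      intro he
      refine hu ?_
      have : (Ideal.span {a}).map (Ideal.Quotient.mk (Ideal.ofList f)) = ⊤ := by
        have := congrArg (Ideal.map (Ideal.Quotient.mk (Ideal.ofList f))) he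
        rwa [Ideal.map_sup, Ideal.map_quotient_self, bot_sup_eq, Ideal.map_top] at this
      rwa [Ideal.map_span, Set.image_singleton, Ideal.span_singleton_eq_top] at this

end Groth.ArtinAtlas
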