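import Groth.Agent.QuotStk.SpQuotMap
import Groth.Agent.AlgSpBasic.LocPInst
import Groth.Agent.S10112

/-!
# A smooth cover with free action gives an atlas of the quotient stack
-/

set_option autoImplicit false
set_option backward.isDefEq.respectTransparency false
set_option backward.isDefEq.respectTransparency.types false
universe u

open CategoryTheory CategoryTheory.Limits AlgebraicGeometry Opposite AlgSp MonoidalCategory
open CategoryTheory.CartesianMonoidalCategory
open Groth.StkBase Groth.AlgStBasic Groth.QuotStk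

noncomputable section

namespace Groth.ArtinAtlas

variable {S : Scheme.{u}} {B : Sp S} {G H X : Over B} [GrpObj G]

/-- The diagonal action on a product. -/
def prodAction (aH : GAction G H) (aX : GAction G X) : GAction G (H ⊗ X) where
  act := lift ((G ◁ fst H X) ≫ aH.act) ((G ◁ snd H X) ≫ aX.act)
  one_act := by
    apply CartesianMonoidalCategory.hom_ext
    · rw [Category.assoc, lift_fst, ← whisker_exchange_assoc, aH.one_act]
      simp
    · rw [Category.assoc, lift_snd, ← whisker_exchange_assoc, aX.one_act]
      simp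
  mul_act := by
    apply CartesianMonoidalCategory.hom_ext
    · rw [Category.assoc, lift_fst, ← whisker_exchange_assoc, aH.mul_act]
      simp only [Category.assoc, lift_fst, ← MonoidalCategory.whiskerLeft_comp_assoc]
      simp [MonoidalCategory.associator_naturality_right_assoc, MonoidalCategory.whiskerLeft_comp_assoc]
    · rw [Category.assoc, lift_snd, ← whisker_exchange_assoc, aX.mul_act]
      simp only [Category.assoc, lift_snd, ← MonoidalCategory.whiskerLeft_comp_assoc]
      simp [MonoidalCategory.associator_naturality_right_assoc, MonoidalCategory.whiskerLeft_comp_assoc]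

theorem isFree_prodAction {aH : GAction G H} (h : aH.IsFree) (aX : GAction G X) :
    (prodAction aH aX).IsFree := by
  intro T β g x e
  refine h β g (x ≫ fst H X) ?_
  conv_rhs => rw [← e]
  simp [prodAction]

variable {aX : GAction G X}

local notation "QSt" => AlgSt.SpQuotSt Scheme.fppfPrecoverage G aX

/-- A smooth surjective cover with free action gives a torsor whose map to `X` is smooth and
surjective. -/
theorem exists_smooth_torsor (hB : IsAlgSpace B) (hG : IsAlgSpace G.left)
    (hfl : LocP @Flat G.hom ∧ LocP @LocallyOfFinitePresentation G.hom) (hX : IsAlgSpace X.left)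
    (hH : IsAlgSpace H.left) (hsm : LocP @Smooth H.hom) (hsurj : IsSurjectiveMor H.hom)
    (aH : GAction G H) (hfree : aH.IsFree) :
    ∃ A : AlgSt.SpQuotObj Scheme.fppfPrecoverage G aX,
      LocP @Smooth A.φ.left ∧ IsSurjectiveMor A.φ.left := by
  let a := prodAction aH aX
  have hY : IsAlgSpace (H ⊗ X).left :=
    Groth.AlgSpBasic.isAlgSpace_pullback ⟨H.left, hH⟩ ⟨X.left, hX⟩ ⟨B, hB⟩ H.hom X.hom
  have haf : a.IsFree := isFree_prodAction hfree aX
  have hj := Groth.AlgSpFppf.isEqvRelSp_of_free a hB hG hY haf
  have hM : IsAlgSpace a.quot := (Groth.Agent.S10112.result S B hB G (H ⊗ X) hG hY a haf hfl).1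
  have sq : IsPullback a.act.left (snd G (H ⊗ X)).left a.quotπ a.quotπ :=
    Groth.AlgSpFppf.isPullback_quotSp hj
  have : Sheaf.IsLocallySurjective a.quotπ := Groth.AlgSpFppf.isLocallySurjective_quotSpπ _ _
  obtain ⟨V, q, hqe, hqs⟩ := hM.atlas
  let desc : a.quot ⟶ B := quotSpDesc (s := (snd G (H ⊗ X)).left) (t := a.act.left) (H ⊗ X).hom
    ((Over.w (snd G (H ⊗ X))).trans (Over.w a.act).symm)
  have hdesc : a.quotπ ≫ desc = (H ⊗ X).hom := quotSpπ_desc _ _ _ _
  have hfst : pullback.fst a.quotπ q ≫ (H ⊗ X).hom = pullback.snd a.quotπ q ≫ q ≫ desc := by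
    rw [← hdesc, pullback.condition_assoc]
  let P : Over B := Over.mk (pullback.fst a.quotπ q ≫ (H ⊗ X).hom)
  let i : P ⟶ H ⊗ X := Over.homMk (pullback.fst a.quotπ q) rfl
  let π : P ⟶ Over.mk (q ≫ desc) := Over.homMk (pullback.snd a.quotπ q) hfst.symm
  have hπ : i.left ≫ a.quotπ = π.left ≫ q := pullback.condition
  have hact : ((G ◁ i) ≫ a.act).left ≫ a.quotπ = ((snd G P) ≫ π).left ≫ q := by
    rw [Over.comp_left, Category.assoc, sq.w, ← Category.assoc, ← Over.comp_left, whiskerLeft_snd,
      Over.comp_left, Category.assoc, hπ, Over.comp_left, Category.assoc]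
  let act : G ⊗ P ⟶ P := Over.homMk (pullback.lift ((G ◁ i) ≫ a.act).left ((snd G P) ≫ π).left hact) (by
    change pullback.lift _ _ _ ≫ pullback.fst a.quotπ q ≫ (H ⊗ X).hom = _
    rw [pullback.lift_fst_assoc, Over.w])
  have act_i : act ≫ i = (G ◁ i) ≫ a.act := Over.OverMorphism.ext (pullback.lift_fst _ _ _)
  have act_π : act ≫ π = snd G P ≫ π := Over.OverMorphism.ext (pullback.lift_snd _ _ _)
  have ext' : ∀ {T : Over B} (f g : T ⟶ P), f ≫ i = g ≫ i → f ≫ π = g ≫ π → f = g := fun f g h₁ h₂ =>
    Over.OverMorphism.ext (pullback.hom_ext (congrArg CommaMorphism.left h₁) (congrArg CommaMorphism.left h₂))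
  let actP : GAction G P :=
    { act := act
      one_act := by
        apply ext'
        · rw [Category.assoc, act_i, ← whisker_exchange_assoc, a.one_act]
          simp
        · rw [Category.assoc, act_π, whiskerRight_snd_assoc]
          simp [leftUnitor_hom]
      mul_act := by
        apply ext'
        · rw [Category.assoc, act_i, ← whisker_exchange_assoc, a.mul_act]
          simp only [Category.assoc, act_i, ← MonoidalCategory.whiskerLeft_comp_assoc]
          simp [MonoidalCategory.associator_naturality_right_assoc, MonoidalCategory.whiskerLeft_comp_assoc]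
        · simp only [Category.assoc, act_π, whiskerRight_snd_assoc, whiskerLeft_snd_assoc]
          simp [reassoc_of% whiskerLeft_snd, act_π] }
  have cart : IsPullback act (snd G P) π π := by
    have h1 : IsPullback ((G ◁ i) ≫ a.act).left (snd G P).left a.quotπ (i.left ≫ a.quotπ) :=
      ((AlgSt.isPullback_whiskerLeft' (G := G) i).map (Over.forget B)).paste_horiz sq
    rw [hπ] at h1
    refine IsPullback.of_map (Over.forget B) act_π ?_
    refine IsPullback.of_right ?_ (congrArg CommaMorphism.left act_π) (IsPullback.of_hasPullback a.quotπ q)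
    rw [show ((Over.forget B).map act) ≫ pullback.fst a.quotπ q = ((G ◁ i) ≫ a.act).left from
      pullback.lift_fst _ _ _]
    exact h1
  have loc : AlgSt.HasSecLoc Scheme.fppfPrecoverage π.left := by
    obtain ⟨C, hC, hl⟩ := Groth.AlgSpBasic.exists_local_lift a.quotπ q
    refine ⟨C, hC, fun T' f hf => ?_⟩
    obtain ⟨l, hl'⟩ := hl f hf
    exact ⟨pullback.lift l ((yon S).map (Over.homMk f)) hl', pullback.lift_snd _ _ _⟩
  let A : AlgSt.SpQuotObj Scheme.fppfPrecoverage G aX :=
    { base := V, b := q ≫ desc, P := P, act := actP, π := π, cart := cart, loc := loc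
      φ := i ≫ snd H X
      eqv := by
        show act ≫ i ≫ snd H X = (G ◁ (i ≫ snd H X)) ≫ aX.act
        rw [reassoc_of% act_i, show a.act ≫ snd H X = (G ◁ snd H X) ≫ aX.act from lift_snd _ _,
          MonoidalCategory.whiskerLeft_comp, Category.assoc] }
  have hP : IsAlgSpace P.left :=
    Groth.AlgSpBasic.isAlgSpace_pullback ⟨(H ⊗ X).left, hY⟩ ⟨(yon S).obj V, IsAlgSpace.yon_obj V⟩
      ⟨a.quot, hM⟩ a.quotπ q
  have hqm : AlgSp.RepWith @Smooth q := Groth.AlgSpBasic.repWith_mono
    (fun _ _ f (hf : Etale f) => inferInstanceAs (Smooth f)) hqe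
  have hsqX : IsPullback (fst H X).left (snd H X).left H.hom X.hom := IsPullback.of_hasPullback H.hom X.hom
  refine ⟨A, ?_, ?_⟩
  · show LocP @Smooth (pullback.fst a.quotπ q ≫ (snd H X).left)
    exact Groth.AlgSpBasic.locP_comp hP hY hX
      (Groth.AlgSpBasic.locP_of_repWith (Groth.AlgSpBasic.repWith_of_isPullback
        (IsPullback.of_hasPullback a.quotπ q).flip hqm))
      (Groth.AlgSpBasic.locP_of_isPullback hH hB hX hsqX hsm)
  · intro x
    obtain ⟨z, hz⟩ := hsurj (Points.map X.hom x)
    obtain ⟨y, -, hy⟩ := Groth.AlgSpBasic.exists_point_of_isPullback hsqX z x hz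
    obtain ⟨p, hp⟩ := Groth.AlgSpBasic.surjective_map_of_repWith
      (Groth.AlgSpBasic.repWith_of_isPullback (IsPullback.of_hasPullback a.quotπ q).flip hqs) y
    refine ⟨p, ?_⟩
    show Points.map (pullback.fst a.quotπ q ≫ (snd H X).left) p = x
    rw [Points.map_comp, hp, hy]

end Groth.ArtinAtlas
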