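import Groth.Agent.ArtinAtlas.SmoothPoint
import Groth.Agent.PropsBasic.LociBaseChange.Scheme

/-!
# A smooth surjective scheme with a free action of an fppf affine group
-/

set_option autoImplicit false
set_option linter.style.haveILetI false
set_option backward.isDefEq.respectTransparency false
set_option backward.isDefEq.respectTransparency.types false
universe u

open CategoryTheory CategoryTheory.Limits AlgebraicGeometry MonoidalCategory MonObj
open CategoryTheory.CartesianMonoidalCategory

noncomputable section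

namespace Groth.ArtinAtlas

variable {S : Scheme.{u}} {G : Over S} [GrpObj G]

theorem act_mul_lift {X : Over S} (a : AlgGrp.Action G X) {T : Over S} (g h : T ⟶ G) (x : T ⟶ X) :
    lift (g * h) x ≫ a.act = lift g (lift h x ≫ a.act) ≫ a.act := by
  have := congrArg (lift (lift g h) x ≫ ·) a.mul_act
  simpa [Hom.mul_def] using this

theorem act_one_lift {X : Over S} (a : AlgGrp.Action G X) {T : Over S} (x : T ⟶ X) :
    lift (1 : T ⟶ G) x ≫ a.act = x := by
  have := congrArg (lift (toUnit T) x ≫ ·) a.one_act
  simpa [Hom.one_def] using this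

/-- An action is free on points. -/
def IsFreeAct {X : Over S} (a : AlgGrp.Action G X) : Prop :=
  ∀ {T : Over S} (g : T ⟶ G) (x : T ⟶ X), lift g x ≫ a.act = x → g = 1

section Locus

variable {X : Over S} (a : AlgGrp.Action G X) [LocallyOfFinitePresentation X.hom]

theorem isPullback_fst_snd : IsPullback (snd G X).left (fst G X).left X.hom G.hom :=
  (IsPullback.of_hasPullback G.hom X.hom).flip

instance : LocallyOfFinitePresentation (fst G X).left :=
  MorphismProperty.of_isPullback (P := @LocallyOfFinitePresentation) isPullback_fst_snd ‹_›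

theorem act_mem_smoothLocus [Flat G.hom] (z : ↥(G ⊗ X).left) (hz : (snd G X).left z ∈ X.hom.smoothLocus) :
    a.act.left z ∈ X.hom.smoothLocus := by
  have h3 : lift (fst G X) (snd G X) ≫ a.act = a.act := by simp
  have h4 : lift (fst G X)⁻¹ a.act ≫ a.act = snd G X := by
    have := act_mul_lift a (fst G X)⁻¹ (fst G X) (snd G X)
    rw [h3, inv_mul_cancel, act_one_lift] at this
    exact this.symm
  let θ : G ⊗ X ≅ G ⊗ X :=
    { hom := lift (fst G X) a.act
      inv := lift (fst G X) (lift (fst G X)⁻¹ (snd G X) ≫ a.act)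
      hom_inv_id := by
        ext : 1
        · simp
        · rw [Category.assoc, lift_snd, comp_lift_assoc, GrpObj.comp_inv, lift_fst, lift_snd,
            Category.id_comp]
          exact h4
      inv_hom_id := by
        ext : 1
        · simp
        · rw [Category.assoc, lift_snd, Category.id_comp, ← act_mul_lift, mul_inv_cancel, act_one_lift] }
  have hθ : θ.hom.left ≫ (fst G X).left = (fst G X).left :=
    congrArg CommaMorphism.left (lift_fst (fst G X) a.act)
  have hi : IsIso θ.hom.left := @Functor.map_isIso _ _ _ _ _ _ (Over.forget S) θ.hom θ.isIso_hom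
  have h1 : z ∈ (fst G X).left.smoothLocus :=
    Groth.PropsBasic.Loci.preimage_smoothLocus_le isPullback_fst_snd hz
  have h2 : θ.hom.left z ∈ (fst G X).left.smoothLocus := by
    have e : θ.hom.left ⁻¹ᵁ (fst G X).left.smoothLocus = (fst G X).left.smoothLocus := by
      rw [Scheme.Hom.preimage_smoothLocus_eq]
      simp only [hθ]
    exact e.ge h1
  have := Groth.PropsBasic.Loci.mem_smoothLocus_of_flat isPullback_fst_snd h2
  rwa [← Scheme.Hom.comp_apply, ← Over.comp_left, lift_snd] at this

variable (X) in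
/-- The smooth part. -/
abbrev smoothPart : Over S := Over.mk (X.hom.smoothLocus.ι ≫ X.hom)

variable (X) in
/-- Its inclusion. -/
abbrev smoothIncl : smoothPart X ⟶ X := Over.homMk X.hom.smoothLocus.ι rfl

instance : Mono (smoothIncl X) :=
  ⟨fun f g h => Over.OverMorphism.ext ((cancel_mono X.hom.smoothLocus.ι).1 (congrArg CommaMorphism.left h))⟩

instance : Smooth (smoothPart X).hom := by
  show Smooth (X.hom.smoothLocus.ι ≫ X.hom)
  rw [← Scheme.Hom.smoothLocus_eq_top_iff, ← Scheme.Hom.preimage_smoothLocus_eq]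
  exact top_le_iff.mp fun p _ => p.2

variable [Flat G.hom]

/-- The action on the smooth part. -/
def smoothAct : G ⊗ smoothPart X ⟶ smoothPart X :=
  Over.homMk (IsOpenImmersion.lift X.hom.smoothLocus.ι ((G ◁ smoothIncl X) ≫ a.act).left (by
    rintro _ ⟨z, rfl⟩
    refine (Scheme.Opens.range_ι X.hom.smoothLocus).ge ?_
    rw [Over.comp_left, Scheme.Hom.comp_apply]
    refine act_mem_smoothLocus a _ ?_
    rw [← Scheme.Hom.comp_apply, ← Over.comp_left, whiskerLeft_snd, Over.comp_left, Scheme.Hom.comp_apply]
    exact ((snd G (smoothPart X)).left z).2)) (by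
      change IsOpenImmersion.lift _ _ _ ≫ X.hom.smoothLocus.ι ≫ X.hom = _
      rw [IsOpenImmersion.lift_fac_assoc, Over.w])

@[reassoc]
theorem smoothAct_incl : smoothAct a ≫ smoothIncl X = (G ◁ smoothIncl X) ≫ a.act :=
  Over.OverMorphism.ext (IsOpenImmersion.lift_fac _ _ _)

/-- The action on the smooth part, as an action. -/
def smoothAction : AlgGrp.Action G (smoothPart X) where
  act := smoothAct a
  one_act := by
    rw [← cancel_mono (smoothIncl X), Category.assoc, smoothAct_incl, ← whisker_exchange_assoc, a.one_act]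
    simp
  mul_act := by
    rw [← cancel_mono (smoothIncl X), Category.assoc, Category.assoc, Category.assoc, smoothAct_incl,
      ← whisker_exchange_assoc, a.mul_act, MonoidalCategory.associator_naturality_right_assoc,
      ← whiskerLeft_comp_assoc G (smoothAct a), smoothAct_incl, whiskerLeft_comp_assoc]

theorem isFree_smoothAction (ha : IsFreeAct a) : IsFreeAct (smoothAction a) := by
  intro T g x h
  refine ha g (x ≫ smoothIncl X) ?_
  conv_rhs => rw [← h, Category.assoc, show (smoothAction a).act = smoothAct a from rfl, smoothAct_incl]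
  rw [lift_whiskerLeft_assoc]

end Locus

section Sigma

variable {κ : Type u} (H : κ → Over S)

/-- Coproduct over the base. -/
abbrev sigmaObj : Over S := Over.mk (Limits.Sigma.desc fun i => (H i).hom)

/-- The inclusions. -/
abbrev sigmaInj (i : κ) : H i ⟶ sigmaObj H :=
  Over.homMk (Limits.Sigma.ι (fun i => (H i).left) i) (Sigma.ι_desc _ _)

instance (i : κ) : IsOpenImmersion (sigmaInj H i).left :=
  inferInstanceAs (IsOpenImmersion (Limits.Sigma.ι (fun i => (H i).left) i))

omit [GrpObj G] in
theorem isPullback_whisker_inj (P : Over S) (i : κ) :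
    IsPullback (P ◁ sigmaInj H i).left (snd P (H i)).left (snd P (sigmaObj H)).left (sigmaInj H i).left := by
  refine IsPullback.of_right ?_ (congrArg CommaMorphism.left (whiskerLeft_snd P (sigmaInj H i)))
    (IsPullback.of_hasPullback P.hom (sigmaObj H).hom)
  rw [Over.w (sigmaInj H i)]
  have e : (P ◁ sigmaInj H i).left ≫ pullback.fst P.hom (sigmaObj H).hom = pullback.fst P.hom (H i).hom :=
    congrArg CommaMorphism.left (whiskerLeft_fst P (sigmaInj H i))
  rw [e]
  exact IsPullback.of_hasPullback P.hom (H i).hom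

instance (P : Over S) (i : κ) : IsOpenImmersion (P ◁ sigmaInj H i).left :=
  MorphismProperty.of_isPullback (P := @IsOpenImmersion) (isPullback_whisker_inj H P i).flip inferInstance

omit [GrpObj G] in
theorem exists_mem_whisker (P : Over S) (z : ↥(P ⊗ sigmaObj H).left) :
    ∃ i, z ∈ Set.range (P ◁ sigmaInj H i).left := by
  obtain ⟨i, y, hy⟩ := (sigmaOpenCover fun i => (H i).left).exists_eq ((snd P (sigmaObj H)).left z)
  obtain ⟨w, hw, -⟩ := Scheme.exists_preimage_of_isPullback (isPullback_whisker_inj H P i) z y hy.symm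
  exact ⟨i, w, hw⟩

/-- The cover of a product with a coproduct. -/
def whiskerCover (P : Over S) : (P ⊗ sigmaObj H).left.OpenCover :=
  .mkOfCovers κ (fun i => (P ⊗ H i).left) (fun i => (P ◁ sigmaInj H i).left)
    (fun z => let ⟨i, w, hw⟩ := exists_mem_whisker H P z; ⟨i, w, hw⟩) fun _ => inferInstance

omit [GrpObj G] in
theorem hom_ext_whiskerInj {P Y : Over S} {f g : P ⊗ sigmaObj H ⟶ Y}
    (h : ∀ i, (P ◁ sigmaInj H i) ≫ f = (P ◁ sigmaInj H i) ≫ g) : f = g :=
  Over.OverMorphism.ext (Scheme.Cover.hom_ext (whiskerCover H P) _ _ fun i =>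
    congrArg CommaMorphism.left (h i))

omit [GrpObj G] in
theorem exists_sigma_desc {P Y : Over S} (f : ∀ i, P ⊗ H i ⟶ Y) :
    ∃ g : P ⊗ sigmaObj H ⟶ Y, ∀ i, (P ◁ sigmaInj H i) ≫ g = f i := by
  let 𝒰 := whiskerCover H P
  have hcompat : ∀ i j, pullback.fst (𝒰.f i) (𝒰.f j) ≫ (f i).left =
      pullback.snd (𝒰.f i) (𝒰.f j) ≫ (f j).left := by
    intro i j
    by_cases hij : i = j
    · subst hij
      have : pullback.fst (𝒰.f i) (𝒰.f i) = pullback.snd (𝒰.f i) (𝒰.f i) :=
        (cancel_mono (𝒰.f i)).1 pullback.condition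
      rw [this]
    · have : IsEmpty ↥(pullback (𝒰.f i) (𝒰.f j)) := ⟨fun w => by
        apply hij
        have e := congr($((congrArg (· ≫ (snd P (sigmaObj H)).left)
          (pullback.condition (f := 𝒰.f i) (g := 𝒰.f j)))) w)
        simp only [Category.assoc] at e
        rw [show 𝒰.f i ≫ (snd P (sigmaObj H)).left = _ from (isPullback_whisker_inj H P i).w,
          show 𝒰.f j ≫ (snd P (sigmaObj H)).left = _ from (isPullback_whisker_inj H P j).w] at e
        simp only [Scheme.Hom.comp_apply] at e
        exact congrArg Sigma.fst ((sigmaι_eq_iff (fun i => (H i).left) i j _ _).mp e)⟩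
      exact isInitialOfIsEmpty.hom_ext _ _
  refine ⟨Over.homMk (𝒰.glueMorphisms (fun i => (f i).left) hcompat) ?_, fun i =>
    Over.OverMorphism.ext (Scheme.Cover.ι_glueMorphisms 𝒰 _ hcompat i)⟩
  refine Scheme.Cover.hom_ext 𝒰 _ _ fun i => ?_
  rw [← Category.assoc, Scheme.Cover.ι_glueMorphisms]
  exact (Over.w (f i)).trans (Over.w (P ◁ sigmaInj H i)).symm

variable {H} (a : ∀ i, AlgGrp.Action G (H i))

theorem exists_sigma_action (hfree : ∀ i, IsFreeAct (a i)) :
    ∃ A : AlgGrp.Action G (sigmaObj H), IsFreeAct A := by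
  obtain ⟨act, hact⟩ := exists_sigma_desc H (P := G) fun i => (a i).act ≫ sigmaInj H i
  refine ⟨⟨act, hom_ext_whiskerInj H fun i => ?_, hom_ext_whiskerInj H fun i => ?_⟩, fun {T} g x h => ?_⟩
  · rw [whisker_exchange_assoc, hact, ← Category.assoc, (a i).one_act]
    simp
  · rw [whisker_exchange_assoc, hact, ← Category.assoc, (a i).mul_act]
    simp only [Category.assoc, MonoidalCategory.associator_naturality_right_assoc]
    rw [← hact, ← whiskerLeft_comp_assoc, ← whiskerLeft_comp_assoc, hact]
  · let 𝒰 := (sigmaOpenCover fun i => (H i).left).pullback₁ x.left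
    refine Over.OverMorphism.ext (Scheme.Cover.hom_ext 𝒰 _ _ fun i => ?_)
    let Ti : Over S := Over.mk (𝒰.f i ≫ T.hom)
    let k : Ti ⟶ T := Over.homMk (𝒰.f i) rfl
    let xi : Ti ⟶ H i := Over.homMk (pullback.snd x.left _) (by
      change pullback.snd x.left (Limits.Sigma.ι (fun i => (H i).left) i) ≫ (H i).hom = 𝒰.f i ≫ T.hom
      rw [← Sigma.ι_desc (fun i => (H i).hom) i, ← Category.assoc, ← pullback.condition, Category.assoc]
      exact congrArg (pullback.fst _ _ ≫ ·) (Over.w x))
    have hxi : k ≫ x = xi ≫ sigmaInj H i := Over.OverMorphism.ext pullback.condition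
    have : Mono (sigmaInj H i) :=
      ⟨fun p q e => Over.OverMorphism.ext ((cancel_mono (sigmaInj H i).left).1 (congrArg CommaMorphism.left e))⟩
    have e : k ≫ g = 1 := hfree i (k ≫ g) xi (by
      rw [← cancel_mono (sigmaInj H i), Category.assoc, ← hact, lift_whiskerLeft_assoc, ← hxi, ← comp_lift_assoc, h])
    rw [← MonObj.comp_one k] at e
    exact congrArg CommaMorphism.left e

end Sigma

variable (G) in
/-- An affine fppf group acts freely on some smooth surjective scheme. -/
theorem exists_free_smooth [IsAffineHom G.hom] [Flat G.hom] [LocallyOfFinitePresentation G.hom] :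
    ∃ (H : Over S) (a : AlgGrp.Action G H), Smooth H.hom ∧ Surjective H.hom ∧ IsFreeAct a := by
  have : Surjective G.hom := ⟨fun s => ⟨(η[G]).left s, by
    rw [← Scheme.Hom.comp_apply, Over.w η[G]]; rfl⟩⟩
  let R : ∀ d, HomRep (zπ (d + 1) S) G := fun d => (exists_homRep (zπ (d + 1) S) G).some
  have : ∀ d, LocallyOfFinitePresentation (R d).obj.hom := fun d => by
    rw [← Over.w (R d).p]
    have := (R d).lfp inferInstance
    infer_instance
  let Ω : ULift.{u} ℕ → Over S := fun d => smoothPart (R d.down).obj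
  have hfree : ∀ d, IsFreeAct (smoothAction (R (ULift.down.{u} d)).action) := fun d =>
    isFree_smoothAction _ fun g x h => (R d.down).free g x h
  obtain ⟨A, hA⟩ := exists_sigma_action (H := Ω) (fun d => smoothAction (R d.down).action) hfree
  refine ⟨sigmaObj Ω, A, IsZariskiLocalAtSource.sigmaDesc (P := @Smooth) fun d => inferInstance,
    ⟨fun s => ?_⟩, hA⟩
  obtain ⟨d, _, x, hx, hxs⟩ := exists_mem_smoothLocus R s
  refine ⟨(sigmaInj Ω ⟨d⟩).left ⟨x, hxs⟩, ?_⟩
  rw [← Scheme.Hom.comp_apply, Over.w (sigmaInj Ω ⟨d⟩)]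
  exact hx

end Groth.ArtinAtlas
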