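import Groth.Agent.ArtinAtlas.LiftQuotient
import Groth.Agent.ArtinAtlas.BasedScheme

/-!
# Lifting points of the hom-scheme near a regular point of the group
-/

set_option autoImplicit false
set_option linter.style.haveILetI false
set_option backward.isDefEq.respectTransparency false
set_option backward.isDefEq.respectTransparency.types false
universe u

open CategoryTheory CategoryTheory.Limits AlgebraicGeometry RingTheory.Sequence IsLocalRing
open scoped TensorProduct

noncomputable section

namespace Groth.ArtinAtlas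

/-- The morphism of chart objects given by a map of algebras. -/
abbrev chartMap {S : Scheme.{u}} {R : Type u} [CommRing R] (jU : Spec (.of R) ⟶ S) {A A' : Type u}
    [CommRing A] [Algebra R A] [CommRing A'] [Algebra R A'] (π : A →ₐ[R] A') :
    chartObj jU A' ⟶ chartObj jU A :=
  Over.homMk (Spec.map (CommRingCat.ofHom π.toRingHom)) (by
    change Spec.map _ ≫ Spec.map _ ≫ jU = Spec.map _ ≫ jU
    rw [← Spec.map_comp_assoc, ← CommRingCat.ofHom_comp,
      show π.toRingHom.comp (algebraMap R A) = algebraMap R A' from π.comp_algebraMap])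

variable {d : ℕ} {S : Scheme.{u}} {G : Over S} {H : HomRep (zπ d S) G}
variable {R C : Type u} [CommRing R] [CommRing C] [Algebra R C]
  {jU : Spec (.of R) ⟶ S} {jG : Spec (.of C) ⟶ G.left}
variable (hG : IsPullback jG (Spec.map (CommRingCat.ofHom (algebraMap R C))) G.hom jU)

set_option maxHeartbeats 800000 in
include hG in
/-- A point over a square zero quotient of a local ring lifts if its closed point is a regular point. -/
theorem exists_lift_point [Module.Flat R C] [Algebra.FinitePresentation R C]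
    {A' : Type u} [CommRing A'] [IsLocalRing A'] [Algebra R A']
    (J : Ideal A') (hJ : J * J = ⊥) (hJfg : J.FG) (h : chartObj jU (A' ⧸ J) ⟶ H.obj)
    {k : Type u} [Field k] [Algebra R k] (π : (A' ⧸ J) →ₐ[R] k) (hπ : Function.Surjective π)
    {Dk : Type u} [CommRing Dk] [Algebra R Dk] [Algebra k Dk] [IsScalarTower R k Dk]
    (bk : Module.Basis (Fin d) k Dk) (Φ : k ⊗[R] C →ₐ[k] Dk) (hΦ : Function.Surjective Φ)
    (f : List (k ⊗[R] C)) (hf : RingHom.ker Φ.toRingHom = Ideal.ofList f)
    (hreg : IsWeaklyRegular (k ⊗[R] C) f)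
    (hP : IsPt H jU jG (chartMap jU π ≫ h) bk
      ((Φ.restrictScalars R).comp Algebra.TensorProduct.includeRight)) :
    ∃ h' : chartObj jU A' ⟶ H.obj, chartMap jU (Ideal.Quotient.mkₐ R J) ≫ h' = h := by
  classical
  obtain ⟨B, _, _, _, _, b, φ, P⟩ := exists_data H jU hG h
  obtain ⟨ψ, hψ₁, hψb, hψφ⟩ := P.exists_map hG π bk _ (chartMap jU π) rfl hP
  letI : Algebra A' B := ((algebraMap (A' ⧸ J) B).comp (algebraMap A' (A' ⧸ J))).toAlgebra
  haveI : IsScalarTower A' (A' ⧸ J) B := .of_algebraMap_eq' rfl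
  haveI : IsScalarTower R A' B := .of_algebraMap_eq' (by
    rw [IsScalarTower.algebraMap_eq R (A' ⧸ J) B, IsScalarTower.algebraMap_eq R A' (A' ⧸ J)]
    rfl)
  let π₀ : A' →ₐ[R] k := π.comp (Ideal.Quotient.mkₐ R J)
  have hπ₀ : Function.Surjective π₀ := hπ.comp Ideal.Quotient.mk_surjective
  have hker₀ : RingHom.ker π₀ = maximalIdeal A' :=
    IsLocalRing.eq_maximalIdeal (RingHom.ker_isMaximal_of_surjective _ hπ₀)
  let φ' : A' ⊗[R] C →ₐ[A'] B := Algebra.TensorProduct.lift (Algebra.ofId A' B) φ fun _ _ => mul_comm _ _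
  let q : A' ⊗[R] C →ₐ[R] k ⊗[R] C := Algebra.TensorProduct.map π₀ (AlgHom.id R C)
  have hq : Function.Surjective q := TensorProduct.map_surjective hπ₀ Function.surjective_id
  have hψa : ∀ a : A', ψ (algebraMap A' B a) = algebraMap k Dk (π₀ a) := fun a =>
    RingHom.congr_fun hψ₁ _
  have hcomm : ∀ c, ψ (φ' c) = Φ (q c) := by
    intro c
    induction c using TensorProduct.induction_on with
    | zero => simp
    | add x y hx hy => simp only [map_add, hx, hy]
    | tmul a c =>
      have hc : Φ (1 ⊗ₜ c) = ψ (φ c) := (hψφ c).symm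
      simp only [φ', q, Algebra.TensorProduct.lift_tmul, Algebra.TensorProduct.map_tmul, map_mul,
        AlgHom.coe_id, id_eq, Algebra.ofId_apply, hψa, ← hc]
      rw [← Algebra.smul_def, ← map_smul, TensorProduct.smul_tmul', smul_eq_mul, mul_one]
  have hkerψ : ∀ y : B, ψ y = 0 → y ∈ (maximalIdeal A').map (algebraMap A' B) := by
    intro y hy
    have hr : ∀ i, ∃ a ∈ maximalIdeal A', Ideal.Quotient.mk J a = b.repr y i := fun i => by
      obtain ⟨a, ha⟩ := Ideal.Quotient.mk_surjective (b.repr y i)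
      refine ⟨a, ?_, ha⟩
      rw [← hker₀]
      have h0 : ∑ j, π (b.repr y j) • bk j = 0 := by
        rw [← hy]
        conv_rhs => rw [← b.sum_repr y, map_sum]
        refine Finset.sum_congr rfl fun j _ => ?_
        rw [Algebra.smul_def, Algebra.smul_def, map_mul, hψb]
        exact congrArg (· * bk j) (RingHom.congr_fun hψ₁ _).symm
      have := Fintype.linearIndependent_iff.1 bk.linearIndependent _ h0 i
      rw [← ha] at this
      exact this
    rw [← b.sum_repr y]
    refine sum_mem fun i _ => ?_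
    obtain ⟨a, ha, hai⟩ := hr i
    rw [← hai, ← Ideal.Quotient.algebraMap_eq, IsScalarTower.algebraMap_smul, Algebra.smul_def]
    exact Ideal.mul_mem_right _ _ (Ideal.mem_map_of_mem _ ha)
  have hkerq : RingHom.ker q = (maximalIdeal A').map (algebraMap A' (A' ⊗[R] C)) := by
    rw [← hker₀]
    exact Algebra.TensorProduct.rTensor_ker (C := C) π₀ hπ₀
  have hψM : ∀ y ∈ (maximalIdeal A').map (algebraMap A' B), ψ y = 0 := by
    intro y hy
    refine (Ideal.map_le_iff_le_comap.2 (fun a ha => ?_) : _ ≤ RingHom.ker ψ) hy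
    show ψ (algebraMap A' B a) = 0
    rw [hψa, show π₀ a = 0 from hker₀.ge ha, map_zero]
  choose lft hlft using hq
  let F := f.map lft
  have hF : F.map q = f := by
    simp only [F, List.map_map]
    exact (List.map_congr_left fun a _ => hlft a).trans (List.map_id f)
  haveI : Module.Flat A' (A' ⊗[R] C) := inferInstance
  obtain ⟨D, _, _, b', φ'', χ, hχb, hχφ⟩ := exists_lift_finite_quotient J hJ hJfg b φ' F
    (fun y => by
      obtain ⟨z, hz⟩ := hΦ (ψ y)
      refine ⟨lft z, hkerψ _ ?_⟩
      rw [map_sub, hcomm, hlft, hz, sub_self])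
    (fun a ha => hkerψ _ (by
      rw [hcomm]
      obtain ⟨z, hz, rfl⟩ := List.mem_map.1 ha
      rw [hlft]
      exact hf.ge (Ideal.subset_span hz)))
    (fun c hc => by
      have : q c ∈ Ideal.ofList f := hf.le (show Φ (q c) = 0 by rw [← hcomm]; exact hψM _ hc)
      have hm : Ideal.ofList (F.map q) = (Ideal.ofList F).map q.toRingHom :=
        (Ideal.map_ofList q.toRingHom F).symm
      rw [← hF, hm] at this
      have := (show c ∈ ((Ideal.ofList F).map q.toRingHom).comap q.toRingHom from this)
      rw [Ideal.comap_map_of_surjective q.toRingHom (fun z => ⟨lft z, hlft z⟩), ← RingHom.ker_eq_comap_bot] at this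
      exact sup_le_sup_left hkerq.le _ this)
    (by
      letI := q.toRingHom.toAlgebra
      have h1 : IsWeaklyRegular (k ⊗[R] C) F := (isWeaklyRegular_map_algebraMap_iff (k ⊗[R] C) _ F).1
        (show IsWeaklyRegular (k ⊗[R] C) (F.map q) from hF.symm ▸ hreg)
      let e : ((A' ⊗[R] C) ⧸ (maximalIdeal A').map (algebraMap A' (A' ⊗[R] C))) ≃ₗ[A' ⊗[R] C] k ⊗[R] C :=
        (Submodule.quotEquivOfEq _ _ hkerq.symm).trans
          ((Ideal.quotientKerAlgEquivOfSurjective (f := Algebra.ofId (A' ⊗[R] C) (k ⊗[R] C))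
            (fun z => ⟨lft z, hlft z⟩)).toLinearEquiv)
      exact (e.isWeaklyRegular_congr F).2 h1)
  letI : Algebra R D := ((algebraMap A' D).comp (algebraMap R A')).toAlgebra
  haveI : IsScalarTower R A' D := .of_algebraMap_eq' rfl
  let φD : C →ₐ[R] D := (φ''.restrictScalars R).comp Algebra.TensorProduct.includeRight
  obtain ⟨h', P'⟩ := exists_isPt H jU jG hG b' φD
  refine ⟨h', IsPt.unique (P'.map (Ideal.Quotient.mkₐ R J) χ.toRingHom b φ ?_ hχb (fun c => ?_) _ rfl) P⟩
  · ext a
    exact χ.commutes a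
  · show χ (φ'' (1 ⊗ₜ c)) = φ c
    rw [← AlgHom.comp_apply, hχφ]
    simp [φ']

end Groth.ArtinAtlas
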