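import Mathlib
import Groth.Agent.Calg4.FibreSliceList

/-!
# Lifting finite free quotients cut out by a sequence regular on the closed fibre

Let `A'` be a local ring, `J` a finitely generated square-zero ideal, `C'` a flat algebra of finite
presentation and `φ : C' → B` a map to an algebra which is finite free over `A'/J`. If modulo the
maximal ideal `φ` is surjective with kernel generated by a sequence regular on the closed fibre, then
`φ` lifts to a map to an algebra finite free over `A'`.
-/

set_option autoImplicit false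
set_option linter.style.haveILetI false
set_option backward.isDefEq.respectTransparency false
set_option backward.isDefEq.respectTransparency.types false
universe u

open TensorProduct RingTheory.Sequence IsLocalRing

namespace Groth.ArtinAtlas

/-- An algebra map which is surjective modulo the maximal ideal onto a finite algebra is surjective. -/
theorem surjective_of_surjective_mod {A C B : Type u} [CommRing A] [IsLocalRing A] [CommRing C]
    [Algebra A C] [CommRing B] [Algebra A B] [Module.Finite A B] (φ : C →ₐ[A] B)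
    (h : ∀ y : B, ∃ c : C, y - φ c ∈ (maximalIdeal A).map (algebraMap A B)) :
    Function.Surjective φ := by
  have hle : (⊤ : Submodule A B) ≤ LinearMap.range φ.toLinearMap := by
    refine Submodule.le_of_le_smul_of_le_jacobson_bot (I := maximalIdeal A) Module.Finite.fg_top
      (IsLocalRing.maximalIdeal_le_jacobson ⊥) fun y _ => ?_
    obtain ⟨c, hc⟩ := h y
    rw [show y = φ c + (y - φ c) by abel]
    refine Submodule.add_mem_sup ⟨c, rfl⟩ ?_
    rw [Ideal.smul_top_eq_map]
    exact hc
  exact fun y => hle trivial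

/-- Elements congruent to one modulo the maximal ideal are units in finite algebras. -/
theorem isUnit_of_sub_one_mem {A B : Type u} [CommRing A] [IsLocalRing A] [CommRing B]
    [Algebra A B] [Module.Finite A B] {y : B}
    (hy : y - 1 ∈ (maximalIdeal A).map (algebraMap A B)) : IsUnit y := by
  have hle : (⊤ : Submodule A B) ≤ (Ideal.span {y}).restrictScalars A := by
    refine Submodule.le_of_le_smul_of_le_jacobson_bot (I := maximalIdeal A) Module.Finite.fg_top
      (IsLocalRing.maximalIdeal_le_jacobson ⊥) fun z _ => ?_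
    rw [show z = z * y + -((y - 1) * z) by ring]
    refine Submodule.add_mem_sup (Ideal.mul_mem_left _ z (Ideal.mem_span_singleton_self y)) ?_
    rw [Ideal.smul_top_eq_map]
    exact neg_mem (Ideal.mul_mem_right _ _ hy)
  exact Ideal.span_singleton_eq_top.1 ((Ideal.eq_top_iff_one _).2 (hle (Submodule.mem_top (x := (1 : B)))))

set_option maxHeartbeats 800000 in
/-- The lifting statement. -/
theorem exists_lift_finite_quotient {A' : Type u} [CommRing A'] [IsLocalRing A']
    (J : Ideal A') (hJ : J * J = ⊥) (hJfg : J.FG)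
    {C' : Type u} [CommRing C'] [Algebra A' C'] [Module.Flat A' C'] [Algebra.FinitePresentation A' C']
    {B : Type u} [CommRing B] [Algebra A' B] [Algebra (A' ⧸ J) B] [IsScalarTower A' (A' ⧸ J) B]
    {d : ℕ} (b : Module.Basis (Fin d) (A' ⧸ J) B) (φ : C' →ₐ[A'] B) (f : List C')
    (hsurj : ∀ y : B, ∃ c : C', y - φ c ∈ (maximalIdeal A').map (algebraMap A' B))
    (hf : ∀ a ∈ f, φ a ∈ (maximalIdeal A').map (algebraMap A' B))
    (hker : ∀ c, φ c ∈ (maximalIdeal A').map (algebraMap A' B) →
      c ∈ Ideal.ofList f ⊔ (maximalIdeal A').map (algebraMap A' C'))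
    (hreg : IsWeaklyRegular (C' ⧸ (maximalIdeal A').map (algebraMap A' C')) f) :
    ∃ (D : Type u) (_ : CommRing D) (_ : Algebra A' D) (b' : Module.Basis (Fin d) A' D)
      (φ' : C' →ₐ[A'] D) (ψ : D →ₐ[A'] B), (∀ i, ψ (b' i) = b i) ∧ ψ.comp φ' = φ := by
  classical
  set M := maximalIdeal A' with hM
  set MC := M.map (algebraMap A' C') with hMC
  haveI : Module.Finite (A' ⧸ J) B := Module.Finite.of_basis b
  haveI : Module.Finite A' B := Module.Finite.trans (A' ⧸ J) B
  haveI hBfp : Module.FinitePresentation A' B := by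
    haveI : Module.FinitePresentation A' (A' ⧸ J) :=
      Module.finitePresentation_of_surjective (Submodule.mkQ J) (Submodule.mkQ_surjective J)
        (by rw [Submodule.ker_mkQ]; exact hJfg)
    haveI : Module.FinitePresentation A' (Fin d → A' ⧸ J) := inferInstance
    exact Module.finitePresentation_of_surjective (b.equivFun.symm.toLinearMap.restrictScalars A')
      b.equivFun.symm.surjective
      (by rw [LinearMap.ker_eq_bot.2 (show Function.Injective (b.equivFun.symm.toLinearMap.restrictScalars A')
        from b.equivFun.symm.injective)]; exact Submodule.fg_bot)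
  haveI : Algebra.FinitePresentation A' B :=
    (Module.FinitePresentation.iff_finitePresentation_of_finite A' B).1 hBfp
  have hφ := surjective_of_surjective_mod φ hsurj
  have hMB : M.map (algebraMap A' B) = MC.map φ.toRingHom := by
    rw [hMC, Ideal.map_map]; congr 1; exact φ.comp_algebraMap.symm
  -- replace the sequence by one in the kernel
  have hadj : ∀ a ∈ f, ∃ c ∈ MC, φ c = φ a := fun a ha => by
    have := hf a ha
    rw [hMB, Ideal.mem_map_iff_of_surjective φ.toRingHom hφ] at this
    exact this
  let adj : C' → C' := fun a => if ha : a ∈ f then a - (hadj a ha).choose else a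
  have hadj₁ : ∀ a ∈ f, φ (adj a) = 0 := fun a ha => by
    simp only [adj, dif_pos ha, map_sub, (hadj a ha).choose_spec.2, sub_self]
  have hadj₂ : ∀ a : C', Ideal.Quotient.mk MC (adj a) = Ideal.Quotient.mk MC a := fun a => by
    by_cases ha : a ∈ f
    · simp only [adj, dif_pos ha, map_sub, Ideal.Quotient.eq_zero_iff_mem.2 (hadj a ha).choose_spec.1,
        sub_zero]
    · simp only [adj, dif_neg ha]
  let f₁ := f.map adj
  have hf₁ : f₁.map (algebraMap C' (C' ⧸ MC)) = f.map (algebraMap C' (C' ⧸ MC)) := by
    simp only [f₁, List.map_map]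
    exact List.map_congr_left fun a _ => hadj₂ a
  have hsup : Ideal.ofList f₁ ⊔ MC = Ideal.ofList f ⊔ MC := by
    have key : ∀ l : List C', Ideal.ofList l ⊔ MC =
        (Ideal.ofList (l.map (algebraMap C' (C' ⧸ MC)))).comap (Ideal.Quotient.mk MC) := fun l => by
      rw [← Ideal.map_ofList, Ideal.Quotient.algebraMap_eq,
        Ideal.comap_map_of_surjective _ Ideal.Quotient.mk_surjective, ← RingHom.ker_eq_comap_bot,
        Ideal.mk_ker]
    rw [key f₁, key f, hf₁]
  have hreg₁ : IsWeaklyRegular (C' ⧸ MC) f₁ := by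
    rw [← isWeaklyRegular_map_algebraMap_iff (C' ⧸ MC) (C' ⧸ MC), hf₁,
      isWeaklyRegular_map_algebraMap_iff]
    exact hreg
  set I₁ := Ideal.ofList f₁ with hI₁
  have hI₁φ : ∀ c ∈ I₁, φ c = 0 := by
    have : I₁ ≤ RingHom.ker φ.toRingHom := Ideal.span_le.2 fun c hc => by
      obtain ⟨a, ha, rfl⟩ := List.mem_map.1 (show c ∈ f₁ from hc)
      exact hadj₁ a ha
    exact fun c hc => this hc
  -- the kernel is small modulo `(f₁) + J`
  set I₀ := I₁ ⊔ J.map (algebraMap A' C') with hI₀
  let K : Ideal C' := RingHom.ker φ.toRingHom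
  have hJB : ∀ x ∈ J, algebraMap A' B x = 0 := fun x hx => by
    rw [IsScalarTower.algebraMap_apply A' (A' ⧸ J) B, Ideal.Quotient.algebraMap_eq,
      Ideal.Quotient.eq_zero_iff_mem.2 hx, map_zero]
  choose e he using fun i => hφ (b i)
  choose σ hσ using Ideal.Quotient.mk_surjective (I := J)
  let s : C' → C' := fun c => ∑ i, algebraMap A' C' (σ (b.repr (φ c) i)) * e i
  have hs : ∀ c, φ (s c) = φ c := fun c => by
    simp only [s, map_sum, map_mul, AlgHom.commutes, he]
    conv_rhs => rw [← b.sum_repr (φ c)]
    refine Finset.sum_congr rfl fun i _ => ?_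
    rw [IsScalarTower.algebraMap_apply A' (A' ⧸ J) B, Ideal.Quotient.algebraMap_eq, hσ,
      Algebra.smul_def]
  have hKM : ∀ v ∈ MC, ∃ k ∈ MC * K, ∃ a : Fin d → A', v = k + ∑ i, algebraMap A' C' (a i) * e i := by
    intro v hv
    have hv' : v ∈ (M • ⊤ : Submodule A' C') := by
      rw [Ideal.smul_top_eq_map]; exact hv
    refine Submodule.smul_induction_on hv' (fun m hm c _ => ?_) fun v w hv hw => ?_
    · refine ⟨algebraMap A' C' m * (c - s c), Ideal.mul_mem_mul (Ideal.mem_map_of_mem _ hm)
        (show φ _ = 0 by rw [map_sub, hs, sub_self]), fun i => m * σ (b.repr (φ c) i), ?_⟩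
      simp only [s, Algebra.smul_def, mul_sub, Finset.mul_sum, map_mul, mul_assoc, sub_add_cancel]
    · obtain ⟨k, hk, a, rfl⟩ := hv
      obtain ⟨k', hk', a', rfl⟩ := hw
      refine ⟨k + k', add_mem hk hk', a + a', ?_⟩
      simp only [Pi.add_apply, map_add, add_mul, Finset.sum_add_distrib]
      abel
  have hKle : K ≤ I₀ ⊔ MC * K := by
    intro x hx
    have hφx : φ x = 0 := hx
    obtain ⟨u, hu, v, hv, rfl⟩ := Submodule.mem_sup.1
      (hsup ▸ hker x (by rw [hφx]; exact zero_mem _))
    obtain ⟨k, hk, a, rfl⟩ := hKM v hv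
    have hk0 : φ k = 0 := (Ideal.mul_le_right : MC * K ≤ K) hk
    rw [map_add, hI₁φ u hu, zero_add, map_add, hk0, zero_add] at hφx
    simp only [map_sum, map_mul, AlgHom.commutes, he] at hφx
    have ha : ∀ i, a i ∈ J := fun i => by
      rw [show (∑ x, (algebraMap A' B) (a x) * b x) =
          ∑ x, Ideal.Quotient.mk J (a x) • b x from Finset.sum_congr rfl fun x _ => by
        rw [IsScalarTower.algebraMap_apply A' (A' ⧸ J) B, Algebra.smul_def]; rfl] at hφx
      exact Ideal.Quotient.eq_zero_iff_mem.1 (Fintype.linearIndependent_iff.1 b.linearIndependent _ hφx i)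
    exact add_mem (Submodule.mem_sup_left (Submodule.mem_sup_left hu))
      (add_mem (Submodule.mem_sup_right hk) (Submodule.mem_sup_left (Submodule.mem_sup_right
        (sum_mem fun i _ => Ideal.mul_mem_right _ _ (Ideal.mem_map_of_mem _ (ha i))))))
  have hI₀K : I₀ ≤ K := sup_le (fun c hc => hI₁φ c hc) (Ideal.map_le_iff_le_comap.2 fun x hx =>
    show φ (algebraMap A' C' x) = 0 by rw [AlgHom.commutes, hJB x hx])
  have hKfg : K.FG := Algebra.FinitePresentation.ker_fG_of_surjective φ hφ
  obtain ⟨g, hg1, hg⟩ : ∃ g : C', g - 1 ∈ MC ∧ ∀ x ∈ K, g * x ∈ I₀ := by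
    let N : Submodule C' (C' ⧸ I₀) := Submodule.map (Submodule.mkQ I₀) K
    obtain ⟨g, hg1, hg⟩ := Submodule.exists_sub_one_mem_and_smul_eq_zero_of_fg_of_le_smul MC N
      (Submodule.FG.map _ hKfg) (by
        rw [← Submodule.map_smul'']
        refine (Submodule.map_mono hKle).trans ?_
        rw [Submodule.map_sup, Submodule.mkQ_map_self, bot_sup_eq]
        exact le_rfl)
    exact ⟨g, hg1, fun x hx => (Submodule.Quotient.mk_eq_zero I₀).1
      (hg _ (Submodule.mem_map_of_mem hx))⟩
  have hgB : IsUnit (φ g) := isUnit_of_sub_one_mem (A := A') (by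
    rw [hMB, ← map_one φ, ← map_sub]
    exact Ideal.mem_map_of_mem φ.toRingHom hg1)
  -- the lift
  let D₀ := C' ⧸ I₁
  let D := Localization.Away (Ideal.Quotient.mk I₁ g)
  let ψ₀ : D₀ →ₐ[A'] B := Ideal.Quotient.liftₐ I₁ φ hI₁φ
  have hψu : IsUnit (ψ₀.toRingHom (Ideal.Quotient.mk I₁ g)) := hgB
  let ψ : D →ₐ[A'] B :=
    { IsLocalization.Away.lift (S := D) (Ideal.Quotient.mk I₁ g) hψu with
      commutes' := fun r => by
        show IsLocalization.Away.lift (Ideal.Quotient.mk I₁ g) hψu (algebraMap A' D r) = _
        rw [IsScalarTower.algebraMap_apply A' D₀ D, IsLocalization.Away.lift_eq]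
        exact ψ₀.commutes r }
  let φ' : C' →ₐ[A'] D := (IsScalarTower.toAlgHom A' D₀ D).comp (Ideal.Quotient.mkₐ A' I₁)
  have hψφ : ψ.comp φ' = φ := AlgHom.ext fun c => IsLocalization.Away.lift_eq _ hψu _
  have hψφ' : ∀ c, ψ (φ' c) = φ c := fun c => DFunLike.congr_fun hψφ c
  have hkerψ : ∀ x : D, ψ x = 0 → x ∈ J.map (algebraMap A' D) := by
    intro x hx
    obtain ⟨n, y, hy⟩ := IsLocalization.Away.surj (Ideal.Quotient.mk I₁ g) x
    obtain ⟨c, rfl⟩ := Ideal.Quotient.mk_surjective y
    have hc : c ∈ K := by
      have := congrArg ψ hy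
      rw [map_mul, hx, zero_mul] at this
      exact ((hψφ' c).symm.trans this.symm)
    have hgc : φ' (g * c) ∈ J.map (algebraMap A' D) := by
      obtain ⟨u, hu, v, hv, huv⟩ := Submodule.mem_sup.1 (hg c hc)
      rw [← huv, map_add]
      refine add_mem ?_ ?_
      · show algebraMap D₀ D (Ideal.Quotient.mk I₁ u) ∈ _
        rw [Ideal.Quotient.eq_zero_iff_mem.2 hu, map_zero]
        exact zero_mem _
      · have := Ideal.mem_map_of_mem φ'.toRingHom hv
        rwa [Ideal.map_map, show φ'.toRingHom.comp (algebraMap A' C') = algebraMap A' D from φ'.comp_algebraMap] at this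
    have hu : IsUnit (φ' g) := IsLocalization.Away.algebraMap_isUnit (Ideal.Quotient.mk I₁ g)
    have hxn : x * φ' g ^ (n + 1) = φ' (g * c) := by
      rw [pow_succ, ← mul_assoc, map_mul, mul_comm (φ' g) (φ' c)]
      exact congrArg (· * φ' g) hy
    exact (Ideal.mul_unit_mem_iff_mem _ (hu.pow (n + 1))).1 (hxn ▸ hgc)
  -- generation
  let N := Submodule.span A' (Set.range fun i => φ' (e i))
  have hgen : ∀ x : D, ∃ a : Fin d → A', x - ∑ i, a i • φ' (e i) ∈ J.map (algebraMap A' D) := fun x => by
    refine ⟨fun i => σ (b.repr (ψ x) i), hkerψ _ ?_⟩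
    rw [map_sub, map_sum, sub_eq_zero]
    conv_lhs => rw [← b.sum_repr (ψ x)]
    refine Finset.sum_congr rfl fun i _ => ?_
    rw [map_smul, hψφ', he, ← IsScalarTower.algebraMap_smul (A' ⧸ J) (σ (b.repr (ψ x) i)),
      Ideal.Quotient.algebraMap_eq, hσ]
  have hN : N = ⊤ := by
    have h1 : (⊤ : Submodule A' D) ≤ N ⊔ J • ⊤ := fun x _ => by
      obtain ⟨a, ha⟩ := hgen x
      rw [show x = ∑ i, a i • φ' (e i) + (x - ∑ i, a i • φ' (e i)) by abel]
      refine Submodule.add_mem_sup (sum_mem fun i _ => Submodule.smul_mem _ _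
        (Submodule.subset_span ⟨i, rfl⟩)) ?_
      rw [Ideal.smul_top_eq_map]; exact ha
    refine eq_top_iff.2 (h1.trans (sup_le le_rfl ?_))
    calc J • (⊤ : Submodule A' D) ≤ J • (N ⊔ J • ⊤) := Submodule.smul_mono le_rfl h1
      _ ≤ N := by
        rw [Submodule.smul_sup, ← Submodule.mul_smul, hJ, Submodule.bot_smul, sup_bot_eq]
        exact Submodule.smul_le_right
  haveI : Module.Finite A' D := ⟨by rw [← hN]; exact Submodule.fg_span (Set.finite_range _)⟩
  -- flatness
  haveI : Module.Flat A' D := by
    refine Module.flat_of_isLocalized_maximal D D (fun P _ => Localization.AtPrime P)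
      (fun P _ => Algebra.linearMap D (Localization.AtPrime P)) fun P _ => ?_
    have hPM : P.comap (algebraMap A' D) = M := by
      haveI : Algebra.IsIntegral A' D := Algebra.IsIntegral.of_finite A' D
      exact IsLocalRing.eq_maximalIdeal (Ideal.isMaximal_comap_of_isIntegral_of_isMaximal P)
    let P₀ : Ideal D₀ := P.comap (algebraMap D₀ D)
    let q : Ideal C' := P₀.comap (Ideal.Quotient.mk I₁)
    have hq : q.comap (algebraMap A' C') = M := hPM
    haveI hflat₀ : Module.Flat A' (LocalizedModule q.primeCompl C') :=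
      Module.Flat.trans A' C' _
    have hreg' : IsWeaklyRegular
        (LocalizedModule q.primeCompl (C' ⊗[A'] (q.comap (algebraMap A' C')).ResidueField)) f₁ := by
      suffices key : ∀ (p : Ideal A') [p.IsPrime], p = M →
          IsWeaklyRegular (LocalizedModule q.primeCompl (C' ⊗[A'] p.ResidueField)) f₁ from key _ hq
      intro p hp hpM
      subst hpM
      let k : (A' ⧸ M) ≃ₗ[A'] M.ResidueField :=
        LinearEquiv.ofBijective (IsScalarTower.toAlgHom A' (A' ⧸ M) M.ResidueField).toLinearMap
          M.bijective_algebraMap_quotient_residueField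
      let E : (C' ⧸ MC) ≃ₗ[C'] C' ⊗[A'] M.ResidueField :=
        (Ideal.qoutMapEquivTensorQout C' (I := M)).trans
          (AlgebraTensorModule.congr (LinearEquiv.refl C' C') k)
      exact (isWeaklyRegular_map_algebraMap_iff (Localization q.primeCompl) _ f₁).1
        (IsWeaklyRegular.of_isLocalizedModule (Localization q.primeCompl) q.primeCompl
          (LocalizedModule.mkLinearMap q.primeCompl _) ((E.isWeaklyRegular_congr f₁).1 hreg₁))
    have hflat := (Groth.Calg4.slice_list q f₁ C' hflat₀ hreg').2 f₁.length le_rfl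
    rw [List.take_length, smul_eq_mul, Ideal.mul_top] at hflat
    haveI : IsLocalization.AtPrime (Localization.AtPrime P) P₀ :=
      IsLocalization.isLocalization_isLocalization_atPrime_isLocalization
        (Submonoid.powers (Ideal.Quotient.mk I₁ g)) (Localization.AtPrime P) P
    have hloc : IsLocalizedModule q.primeCompl
        (IsScalarTower.toAlgHom C' D₀ (Localization.AtPrime P)).toLinearMap := by
      refine isLocalizedModule_iff_isLocalization.2 ?_
      have : Algebra.algebraMapSubmonoid D₀ q.primeCompl = P₀.primeCompl := by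
        ext y
        constructor
        · rintro ⟨c, hc, rfl⟩; exact hc
        · intro hy
          obtain ⟨c, rfl⟩ := Ideal.Quotient.mk_surjective y
          exact ⟨c, hy, rfl⟩
      rw [this]
      infer_instance
    exact Module.Flat.of_linearEquiv
      ((IsLocalizedModule.iso q.primeCompl
        (IsScalarTower.toAlgHom C' D₀ (Localization.AtPrime P)).toLinearMap).symm.restrictScalars A')
  -- freeness
  haveI : Module.Free A' D := Module.free_of_flat_of_isLocalRing
  let T : (Fin d → A') →ₗ[A'] D := Fintype.linearCombination A' fun i => φ' (e i)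
  have hTs : Function.Surjective T := by
    rw [← LinearMap.range_eq_top, Fintype.range_linearCombination]
    exact hN
  obtain ⟨S, hS⟩ := Module.projective_lifting_property T LinearMap.id hTs
  have hTi : Function.Injective T := by
    rw [← LinearMap.ker_eq_bot]
    have hJ₁ : ∀ a, T a = 0 → ∀ i, a i ∈ J := fun a ha i => by
      have := congrArg ψ ha
      rw [map_zero, Fintype.linearCombination_apply, map_sum] at this
      simp only [map_smul, hψφ', he] at this
      rw [show (∑ x, a x • b x) = ∑ x, Ideal.Quotient.mk J (a x) • b x from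
        Finset.sum_congr rfl fun x _ => (IsScalarTower.algebraMap_smul (A' ⧸ J) (a x) (b x)).symm] at this
      exact Ideal.Quotient.eq_zero_iff_mem.1 (Fintype.linearIndependent_iff.1 b.linearIndependent _ this i)
    let π : (Fin d → A') →ₗ[A'] (Fin d → A') := LinearMap.id - S.comp T
    have hπ : ∀ a, T (π a) = 0 := fun a => by
      simp only [π, LinearMap.sub_apply, LinearMap.id_apply, LinearMap.comp_apply, map_sub]
      rw [show T (S (T a)) = T a from LinearMap.congr_fun hS (T a), sub_self]
    have hπJ : ∀ a, (∀ i, a i ∈ J) → ∀ i, π a i = 0 := fun a ha i => by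
      have : a = ∑ j, a j • (Pi.basisFun A' (Fin d)) j := by
        conv_lhs => rw [← (Pi.basisFun A' (Fin d)).sum_repr a]
        simp
      rw [this, map_sum, Finset.sum_apply]
      refine Finset.sum_eq_zero fun j _ => ?_
      rw [map_smul, Pi.smul_apply, smul_eq_mul]
      exact (Ideal.mem_bot).1 (hJ ▸ Ideal.mul_mem_mul (ha j) (hJ₁ _ (hπ _) i))
    refine eq_bot_iff.2 fun a ha => ?_
    have h1 : π a = a := by simp [π, LinearMap.mem_ker.1 ha]
    rw [Submodule.mem_bot]
    exact funext fun i => by rw [← h1]; exact hπJ a (hJ₁ a (LinearMap.mem_ker.1 ha)) i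
  let b' : Module.Basis (Fin d) A' D :=
    Module.Basis.ofEquivFun (LinearEquiv.ofBijective T ⟨hTi, hTs⟩).symm
  refine ⟨D, inferInstance, inferInstance, b', φ', ψ, fun i => ?_, hψφ⟩
  have : b' i = φ' (e i) := by
    simp [b', T]
  rw [this, hψφ', he]

end Groth.ArtinAtlas
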