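import Groth.Agent.ArtinAtlas.FreeCover
import Groth.Agent.ArtinAtlas.FreeSmooth
import Groth.Agent.ArtinAtlas.DiagFppf
import Groth.Agent.QuotStk.QuotStStack
import Groth.Agent.QuotStk.QuotMap
import Groth.Agent.AlgStBasic.LocQDescend

/-!
# Atlases of quotient stacks by affine fppf group schemes
-/

set_option autoImplicit false
set_option backward.isDefEq.respectTransparency false
set_option backward.isDefEq.respectTransparency.types false
universe u

open CategoryTheory CategoryTheory.Limits AlgebraicGeometry Opposite AlgSp MonoidalCategory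
open CategoryTheory.CartesianMonoidalCategory CategoryTheory.MonObj CategoryTheory.Functor.LaxMonoidal
open Groth.StkBase Groth.AlgStBasic Groth.QuotStk
open scoped CategoryTheory.Obj

noncomputable section

namespace Groth.ArtinAtlas

variable {S : Scheme.{u}} {G X : Over S} [GrpObj G]

theorem isLocalOnBase_fppf_surjective :
    IsLocalOnBase IsFppfCover (IsSurjectiveMor (S := S)) := by
  intro I Y Yi g _ _ hg Z f _ Zi p q _ sq
  refine ⟨fun h i y => ?_, fun h y => ?_⟩
  · obtain ⟨x, hx⟩ := h (Points.map (g i) y)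
    obtain ⟨z, -, hz⟩ := Groth.AlgSpBasic.exists_point_of_isPullback (sq i) x y hx
    exact ⟨z, hz⟩
  · obtain ⟨i, w, rfl⟩ := hg.2 y
    obtain ⟨z, rfl⟩ := h i w
    exact ⟨Points.map (q i) z, by rw [← Points.map_comp, ← Points.map_comp, (sq i).w]⟩

theorem emb_map_toUnit (T : Over S) :
    (emb S).map (toUnit T) = toUnit ((emb S).obj T) ≫ ε (emb S) :=
  Over.OverMorphism.ext ((subsingleton_hom_B0 T).elim _ _)

theorem isFree_embAction {H : Over S} {a : AlgGrp.Action G H} (h : IsFreeAct a) :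
    (embAction a).IsFree := by
  intro T β g x e
  obtain rfl : β = (yon S).map (Over.mkIdTerminal.from T) := (subsingleton_hom_B0 T).elim _ _
  obtain ⟨g', hg⟩ := emb_hom_surjective (show (emb S).obj T ⟶ (emb S).obj G from g)
  obtain ⟨x', hx⟩ := emb_hom_surjective (show (emb S).obj T ⟶ (emb S).obj H from x)
  have e' : (emb S).map (lift g' x' ≫ a.act) = (emb S).map x' := by
    rw [Functor.map_comp, hx]
    refine Eq.trans ?_ e
    rw [show (emb S).map (lift g' x') =
      lift ((emb S).map g') ((emb S).map x') ≫ Functor.LaxMonoidal.μ (emb S) G H from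
        (Functor.Monoidal.lift_μ (emb S) g' x').symm, hg, hx]
    exact Category.assoc _ _ _
  rw [← hg, h g' x' ((emb S).map_injective e'), Hom.one_def, Functor.map_comp, emb_map_toUnit,
    Category.assoc]
  rfl

theorem locP_emb_hom {P : MorphismProperty Scheme.{u}} [Groth.AlgSpBasic.EtaleLocal P] (Y : Over S) (h : P Y.hom) : LocP P ((emb S).obj Y).hom := by
  refine Groth.AlgSpBasic.locP_of_repWith ((repWith_yon_map_iff _ _).2 ?_)
  rwa [show (Over.mkIdTerminal.from Y).left = Y.hom from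
    (Category.comp_id _).symm.trans (Over.w (Over.mkIdTerminal.from Y))]

variable (aX : AlgGrp.Action G X) [IsAffineHom G.hom] [Flat G.hom]
  [LocallyOfFinitePresentation G.hom]

local notation "Q₀" => AlgSt.QuotSt Scheme.fppfPrecoverage G aX

/-- A torsor which is smooth and surjective over the space being divided. -/
theorem exists_smooth_quotObj :
    ∃ A : AlgSt.QuotObj Scheme.fppfPrecoverage G aX, Smooth A.φ.left ∧ Surjective A.φ.left := by
  obtain ⟨H, aH, hsm, hsurj, hfree⟩ := exists_free_smooth G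
  obtain ⟨A, hA₁, hA₂⟩ := exists_smooth_torsor (G := (emb S).obj G) (H := (emb S).obj H)
    (X := (emb S).obj X) (aX := embAction aX) (IsAlgSpace.yon_obj _) (IsAlgSpace.yon_obj G)
    ⟨locP_emb_hom G ‹_›, locP_emb_hom G ‹_›⟩ (IsAlgSpace.yon_obj X) (IsAlgSpace.yon_obj H)
    (locP_emb_hom H hsm)
    (Groth.AlgSpBasic.surjective_map_of_repWith ((repWith_yon_map_iff _ _).2 (by
      rwa [show (Over.mkIdTerminal.from H).left = H.hom from
        (Category.comp_id _).symm.trans (Over.w (Over.mkIdTerminal.from H))])))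
    (embAction aH) (isFree_embAction hfree)
  obtain ⟨A₀, i, -⟩ := exists_vert_preimage (isEquivOver_embQuot (aX := aX)) A
  let t : embObj A₀ ⟶ A := i.hom
  have : IsIso t.top.left := by
    refine ⟨⟨(i.inv : A ⟶ embObj A₀).top.left, ?_, ?_⟩⟩
    · exact congrArg (fun m : embObj A₀ ⟶ embObj A₀ => m.top.left) i.hom_inv_id
    · exact congrArg (fun m : A ⟶ A => m.top.left) i.inv_hom_id
  have hφ : (yon S).map A₀.φ = t.top.left ≫ A.φ.left := (congrArg CommaMorphism.left t.wφ).symm
  refine ⟨A₀, ?_, ?_⟩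
  · have : LocP @Smooth ((yon S).map A₀.φ) := by
      rw [hφ]
      exact (MorphismProperty.cancel_left_of_respectsIso (LocP (S := S) @Smooth) _ _).2 hA₁
    exact this (𝟙 _) (𝟙 _) A₀.φ (repWith_id _ _) (repWith_id _ _) (by simp)
  · have : IsSurjectiveMor ((yon S).map A₀.φ) := by
      rw [hφ]
      exact (MorphismProperty.cancel_left_of_respectsIso (IsSurjectiveMor (S := S)) _ _).2 hA₂
    exact surjective_left_of_yon this

theorem hasAtlas_quotSt : AlgSt.HasAtlas (LocP @Smooth) Q₀ := by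
  obtain ⟨A, hA₁, hA₂⟩ := exists_smooth_quotObj aX
  have hgr := isFibGrpd_quotSt (aX := aX)
  let W : Space S := ⟨(yon S).obj X, IsAlgSpace.yon_obj X⟩
  let w : AlgSt.ofSp W.obj ⥤ᵇ Q₀ := AlgSt.quotMap Scheme.fppfPrecoverage G aX
  have hE := isEquivOver_ofOverCat X
  have hw₁ : AlgSt.RepByAlgSpWith (LocP @Flat) w :=
    (repWith_precomp_equiv hE w).1 (repByAlgSpWith_locP_atlas @Flat ‹_›)
  have hw₂ : AlgSt.RepByAlgSpWith (LocP @LocallyOfFinitePresentation) w :=
    (repWith_precomp_equiv hE w).1 (repByAlgSpWith_locP_atlas @LocallyOfFinitePresentation ‹_›)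
  have hw₃ : AlgSt.RepByAlgSpWith IsSurjectiveMor w :=
    (repWith_precomp_equiv hE w).1 (repByAlgSpWith_surjective_atlas aX)
  have hdiag := repByAlgSp1_diag_of_fppf_cover (isStack_quotSt aX) W w hw₁ hw₂ hw₃
  let y : FibCat.overCat A.base ⥤ᵇ Q₀ := overFunctor hgr A rfl
  have hy : AlgSt.RepByAlgSp1 y := (repByAlgSp1_diag_iff hgr).1 hdiag A.base y
  obtain ⟨j, hj⟩ := overFunctor_eval hgr A rfl
  let j' : torsor y ⟶ A := j.hom
  have : IsIso j'.top := by
    refine ⟨⟨(j.inv : A ⟶ torsor y).top, ?_, ?_⟩⟩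
    · exact congrArg (fun m : torsor y ⟶ torsor y => m.top) j.hom_inv_id
    · exact congrArg (fun m : A ⟶ A => m.top) j.inv_hom_id
  have hφ : (torsor y).φ = j'.top ≫ A.φ := j'.wφ.symm
  let e : AlgSt.ofSch (torsor y).P ⥤ᵇ FibCat.fp w y :=
    BasedFunctor.comp (BasedFunctor.comp (fibreFunctor y) (fpSwap y (atlas aX)))
      (fpPre (AlgSt.ofOverCat X) (BasedFunctor.id _) w y)
  have he : FibCat.IsEquivOver e :=
    isEquivOver_comp (isEquivOver_comp (isEquivOver_fibreFunctor y) (isEquivOver_fpSwap y (atlas aX)))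
      (isEquivOver_fpPre hE (isEquivOver_id _) w y)
  let a : (⟨(yon S).obj (torsor y).P, IsAlgSpace.yon_obj _⟩ : Space S) ⟶ W :=
    ObjectProperty.homMk ((yon S).map (torsor y).φ)
  have hβ : Nonempty (BasedFunctor.comp e (FibCat.fpFst w y) ≅ AlgSt.ofSpMap a.hom) := by
    have hp : pshMapOf (BasedFunctor.comp e (FibCat.fpFst w y)) =
        ((yon S).map (torsor y).φ).hom := by
      ext T x
      show ((yon S).obj X).obj.map _ (⟨x.down ≫ (torsor y).φ⟩ : ULift _) = _
      exact (map_op_id ((yon S).obj X).obj _ rfl _).trans rfl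
    obtain ⟨β⟩ := nonempty_iso_pshMapOf (BasedFunctor.comp e (FibCat.fpFst w y))
    rw [hp] at β
    exact ⟨β⟩
  refine ⟨A.base, y,
    (repWith_iff_exists_map_of_cover (isFibGrpd_overCat _) hgr stableBaseChange_locP
      (isLocalOnBase_fppf_locP _) hy hw₁ hw₂ hw₃).2 ⟨_, a, e, he, hβ, ?_⟩,
    (repWith_iff_exists_map_of_cover (isFibGrpd_overCat _) hgr stableBaseChange_surjective
      isLocalOnBase_fppf_surjective hy hw₁ hw₂ hw₃).2 ⟨_, a, e, he, hβ, ?_⟩⟩
  · show LocP @Smooth ((yon S).map (torsor y).φ)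
    rw [hφ, Functor.map_comp, MorphismProperty.cancel_left_of_respectsIso (LocP (S := S) @Smooth)]
    exact Groth.AlgSpBasic.locP_of_repWith ((repWith_yon_map_iff _ _).2 hA₁)
  · show IsSurjectiveMor ((yon S).map (torsor y).φ)
    rw [hφ, Functor.map_comp, MorphismProperty.cancel_left_of_respectsIso (IsSurjectiveMor (S := S))]
    exact Groth.AlgSpBasic.surjective_map_of_repWith ((repWith_yon_map_iff _ _).2 hA₂)

theorem isAlgStack_quotSt : AlgSt.IsAlgStack Scheme.fppfPrecoverage Q₀ :=
  Groth.AlgStBasic.isAlgStack_of_hasAtlas (isStack_quotSt aX) (hasAtlas_quotSt aX)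

end Groth.ArtinAtlas
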