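import Groth.Agent.ArtinAtlas.LiftPoint
import Groth.Agent.ArtinAtlas.FibrePoint

/-!
# The hom-scheme has smooth points over every point of the base
-/

set_option autoImplicit false
set_option linter.style.haveILetI false
set_option backward.isDefEq.respectTransparency false
set_option backward.isDefEq.respectTransparency.types false
universe u

open CategoryTheory CategoryTheory.Limits AlgebraicGeometry RingTheory.Sequence IsLocalRing
open scoped TensorProduct

noncomputable section

namespace Groth.ArtinAtlas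

/-- The smooth locus of an affine scheme over an open of the base. -/
theorem mem_smoothLocus_specMap_comp {S : Scheme.{u}} {R E : Type u} [CommRing R] [CommRing E]
    [Algebra R E] (jU : Spec (.of R) ⟶ S) [IsOpenImmersion jU]
    [LocallyOfFinitePresentation (Spec.map (CommRingCat.ofHom (algebraMap R E)) ≫ jU)]
    (q : PrimeSpectrum E) :
    q ∈ (Spec.map (CommRingCat.ofHom (algebraMap R E)) ≫ jU).smoothLocus ↔
      Algebra.IsSmoothAt R q.asIdeal := by
  let ψ := CommRingCat.ofHom (algebraMap R E)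
  let p := q.asIdeal.comap (algebraMap R E)
  refine Scheme.Hom.mem_smoothLocus.trans ?_
  rw [Scheme.Hom.stalkMap_comp]
  refine (RingHom.FormallySmooth.respectsIso.cancel_left_isIso _ _).trans ?_
  refine (RingHom.FormallySmooth.respectsIso.arrow_mk_iso_iff (Scheme.arrowStalkMapSpecIso ψ q)).trans ?_
  have : q.asIdeal.LiesOver p := ⟨rfl⟩
  let := Localization.AtPrime.algebraOfLiesOver p q.asIdeal
  have : Algebra.FormallyEtale R (Localization.AtPrime p) :=
    Algebra.FormallyEtale.of_isLocalization p.primeCompl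
  refine Iff.trans ?_ (Algebra.FormallySmooth.iff_restrictScalars (R := R) (A := Localization.AtPrime p)).symm
  rw [← RingHom.formallySmooth_algebraMap]
  rfl

/-- The isomorphism of a quotient by a kernel. -/
theorem exists_quotEquiv {R A B : Type u} [CommRing R] [CommRing A] [CommRing B] [Algebra R A]
    [Algebra R B] (g : A →ₐ[R] B) (hg : Function.Surjective g) (J : Ideal A) (hJ : RingHom.ker g = J) :
    ∃ β : (A ⧸ J) ≃ₐ[R] B, ∀ a, β (Ideal.Quotient.mk J a) = g a := by
  subst hJ
  exact ⟨Ideal.quotientKerAlgEquivOfSurjective hg, fun _ => rfl⟩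

/-- A localization is formally smooth if it lifts over a square zero thickening of a presentation. -/
theorem formallySmooth_of_lift {R E : Type u} [CommRing R] [CommRing E] [Algebra R E]
    (Q : Ideal E) [Q.IsPrime] (L : Type u) [CommRing L] [Algebra R L] [Algebra E L]
    [IsScalarTower R E L] [IsLocalization.AtPrime L Q] [Nontrivial L]
    (P : Type u) [CommRing P] [IsLocalRing P] [Algebra R P] [Algebra.FormallySmooth R P]
    (f : P →ₐ[R] L) (hfs : Function.Surjective f) (hfker : (RingHom.ker f.toRingHom).FG)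
    (hlift : ∀ (A' : Type u) [CommRing A'] [IsLocalRing A'] [Algebra R A'] (J : Ideal A'),
      J * J = ⊥ → J.FG → ∀ β : (A' ⧸ J) ≃ₐ[R] L,
        ∃ α' : E →ₐ[R] A', ∀ x, β (Ideal.Quotient.mk J (α' x)) = algebraMap E L x) :
    Algebra.FormallySmooth R L := by
  generalize hK : RingHom.ker f.toRingHom = K at hfker
  subst hK
  haveI : Nontrivial (P ⧸ RingHom.ker f.toRingHom ^ 2) := by
    refine Ideal.Quotient.nontrivial_iff.2 fun h => ?_
    exact RingHom.ker_ne_top f.toRingHom (top_le_iff.1 (h.ge.trans (Ideal.pow_le_self two_ne_zero)))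
  haveI : IsLocalRing (P ⧸ RingHom.ker f.toRingHom ^ 2) :=
    .of_surjective' _ Ideal.Quotient.mk_surjective
  let J : Ideal (P ⧸ RingHom.ker f.toRingHom ^ 2) :=
    (RingHom.ker f.toRingHom).map (Ideal.Quotient.mk (RingHom.ker f.toRingHom ^ 2))
  have hJ : J * J = ⊥ := by
    refine eq_bot_iff.2 (Ideal.mul_le.2 fun x hx y hy => ?_)
    obtain ⟨x, hx', rfl⟩ := (Ideal.mem_map_iff_of_surjective _ Ideal.Quotient.mk_surjective).1 hx
    obtain ⟨y, hy', rfl⟩ := (Ideal.mem_map_iff_of_surjective _ Ideal.Quotient.mk_surjective).1 hy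
    rw [Submodule.mem_bot, ← map_mul, Ideal.Quotient.eq_zero_iff_mem, pow_two]
    exact Ideal.mul_mem_mul hx' hy'
  have hsurj : Function.Surjective f.kerSquareLift :=
    Ideal.Quotient.lift_surjective_of_surjective _ _ hfs
  have hkerJ : RingHom.ker f.kerSquareLift = J := by
    refine le_antisymm (fun z hz => ?_) (Ideal.map_le_iff_le_comap.2 fun y hy => hy)
    obtain ⟨y, rfl⟩ := Ideal.Quotient.mk_surjective z
    exact Ideal.mem_map_of_mem _ hz
  obtain ⟨β, hβ⟩ := exists_quotEquiv f.kerSquareLift hsurj J hkerJ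
  obtain ⟨α', hα'⟩ := hlift _ J hJ (Ideal.FG.map hfker _) β
  have hα : ∀ x, f.kerSquareLift (α' x) = algebraMap E L x := fun x => (hβ _).symm.trans (hα' x)
  let σ : L →ₐ[R] P ⧸ RingHom.ker f.toRingHom ^ 2 :=
    IsLocalization.liftAlgHom (M := Q.primeCompl) (f := α') fun y => by
      obtain ⟨v, hv⟩ := hsurj ((IsLocalization.map_units L y).unit⁻¹ :)
      have h1 : α' y * v - 1 ∈ J := by
        rw [← hkerJ, RingHom.mem_ker, map_sub, map_mul, map_one, hα, hv, IsUnit.mul_val_inv, sub_self]
      have h2 : IsNilpotent (α' y * v - 1) := ⟨2, (pow_two (α' y * v - 1)).trans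
        (Ideal.mem_bot.1 (hJ.le (Ideal.mul_mem_mul h1 h1)))⟩
      exact isUnit_of_mul_isUnit_left (x := α' y) (y := v) (by
        simpa using h2.isUnit_one_add)
  refine Algebra.FormallySmooth.of_split f σ ?_
  refine AlgHom.coe_ringHom_injective (IsLocalization.ringHom_ext Q.primeCompl (RingHom.ext fun x => ?_))
  show f.kerSquareLift (σ (algebraMap E L x)) = algebraMap E L x
  rw [show σ (algebraMap E L x) = α' x from IsLocalization.lift_eq _ _]
  exact hα x

/-- A finitely presented algebra is smooth at a prime if the localization lifts over square zero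
local thickenings. -/
theorem isSmoothAt_of_lift {R E : Type u} [CommRing R] [CommRing E] [Algebra R E]
    [Algebra.FinitePresentation R E] (Q : Ideal E) [Q.IsPrime]
    (hlift : ∀ (A' : Type u) [CommRing A'] [IsLocalRing A'] [Algebra R A'] (J : Ideal A'),
      J * J = ⊥ → J.FG → ∀ β : (A' ⧸ J) ≃ₐ[R] Localization.AtPrime Q,
        ∃ α' : E →ₐ[R] A', ∀ x, β (Ideal.Quotient.mk J (α' x)) = algebraMap E _ x) :
    Algebra.IsSmoothAt R Q := by
  obtain ⟨n, g, hg, hgk⟩ := Algebra.FinitePresentation.out (R := R) (A := E)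
  let P₀ := MvPolynomial (Fin n) R
  let Q₀ : Ideal P₀ := Q.comap g.toRingHom
  let P := Localization.AtPrime Q₀
  letI := g.toRingHom.toAlgebra
  haveI : IsScalarTower R P₀ E := .of_algebraMap_eq' g.comp_algebraMap.symm
  let f : P →ₐ[R] Localization.AtPrime Q :=
    IsLocalization.liftAlgHom (M := Q₀.primeCompl)
      (f := (IsScalarTower.toAlgHom R E _).comp g) fun y =>
        IsLocalization.map_units (Localization.AtPrime Q) (⟨g y, y.2⟩ : Q.primeCompl)
  have hf₁ : ∀ y, f (algebraMap P₀ P y) = algebraMap E _ (g y) := fun y =>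
    IsLocalization.lift_eq _ _
  have hfs : Function.Surjective f := by
    intro z
    obtain ⟨⟨x, s⟩, hz⟩ := IsLocalization.surj Q.primeCompl z
    obtain ⟨x', rfl⟩ := hg x
    obtain ⟨s', hs'⟩ := hg s
    have hs'Q : s' ∈ Q₀.primeCompl := fun h => s.2 (hs' ▸ h)
    refine ⟨IsLocalization.mk' P x' ⟨s', hs'Q⟩, ?_⟩
    apply (IsLocalization.map_units (Localization.AtPrime Q) s).mul_left_injective
    show f _ * algebraMap E _ (s : E) = z * algebraMap E _ (s : E)
    rw [hz]
    show f _ * algebraMap E _ (s : E) = algebraMap E _ (g x')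
    rw [← hs', ← hf₁, ← hf₁, ← map_mul, IsLocalization.mk'_spec P x' ⟨s', hs'Q⟩]
  have hfker : (RingHom.ker f.toRingHom).FG := by
    have : RingHom.ker f.toRingHom = (RingHom.ker g.toRingHom).map (algebraMap P₀ P) := by
      refine le_antisymm (fun z hz => ?_) (Ideal.map_le_iff_le_comap.2 fun y hy => ?_)
      · obtain ⟨y, s, rfl⟩ := IsLocalization.exists_mk'_eq Q₀.primeCompl z
        have hy : algebraMap E (Localization.AtPrime Q) (g y) = 0 := by
          rw [← hf₁, ← IsLocalization.mk'_spec P y s, map_mul, show f _ = 0 from hz, zero_mul]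
        obtain ⟨t, ht⟩ := (IsLocalization.map_eq_zero_iff Q.primeCompl _ _).1 hy
        obtain ⟨t', ht'⟩ := hg t
        have ht'Q : t' ∈ Q₀.primeCompl := fun h => t.2 (ht' ▸ h)
        have hmem : t' * y ∈ RingHom.ker g.toRingHom := by
          show g (t' * y) = 0
          rw [map_mul, ht']
          exact ht
        have := Ideal.mul_mem_left _ (IsLocalization.mk' P 1 (⟨t', ht'Q⟩ * s : Q₀.primeCompl))
          (Ideal.mem_map_of_mem (algebraMap P₀ P) hmem)
        convert this using 1
        rw [mul_comm, IsLocalization.mul_mk'_eq_mk'_of_mul, mul_one, IsLocalization.mk'_eq_iff_eq]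
        simp [mul_comm, mul_left_comm]
      · show f (algebraMap P₀ P y) = 0
        rw [hf₁, show g y = 0 from hy, map_zero]
    rw [this]
    exact Ideal.FG.map hgk _
  haveI : Algebra.FormallySmooth R P := inferInstance
  exact formallySmooth_of_lift Q (Localization.AtPrime Q) P f hfs hfker hlift

variable {S : Scheme.{u}} {G : Over S}

set_option maxHeartbeats 1000000 in
/-- Over every point of an affine chart some hom-scheme has a smooth point. -/
theorem exists_mem_smoothLocus_chart (H : ∀ d, HomRep (zπ (d + 1) S) G)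
    [IsAffineHom G.hom] [LocallyOfFinitePresentation G.hom]
    {R C : Type u} [CommRing R] [CommRing C] [Algebra R C] [Module.Flat R C]
    [Algebra.FinitePresentation R C]
    (jU : Spec (.of R) ⟶ S) [IsOpenImmersion jU] (jG : Spec (.of C) ⟶ G.left)
    (hG : IsPullback jG (Spec.map (CommRingCat.ofHom (algebraMap R C))) G.hom jU)
    (hC : ∀ p : PrimeSpectrum R, Nontrivial (p.asIdeal.ResidueField ⊗[R] C))
    (p : PrimeSpectrum R) :
    ∃ (d : ℕ) (_ : LocallyOfFinitePresentation (H d).obj.hom) (x : ↥(H d).obj.left),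
      (H d).obj.hom x = jU p ∧ x ∈ (H d).obj.hom.smoothLocus := by
  classical
  let k := p.asIdeal.ResidueField
  haveI := hC p
  obtain ⟨f, hreg, hfin, hnt⟩ := exists_finite_regular_quotient k (k ⊗[R] C)
  let Dk := (k ⊗[R] C) ⧸ Ideal.ofList f
  obtain ⟨d, hd⟩ : ∃ d, Module.finrank k Dk = d + 1 :=
    ⟨Module.finrank k Dk - 1, (Nat.succ_pred_eq_of_pos Module.finrank_pos).symm⟩
  let bk : Module.Basis (Fin (d + 1)) k Dk := (Module.finBasis k Dk).reindex (finCongr hd)
  let Φ : k ⊗[R] C →ₐ[k] Dk := Ideal.Quotient.mkₐ k _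
  obtain ⟨hk, hP⟩ := exists_isPt (H d) jU jG hG bk
    ((Φ.restrictScalars R).comp Algebra.TensorProduct.includeRight)
  have hHlfp : LocallyOfFinitePresentation (H d).obj.hom := by
    rw [← Over.w (H d).p]
    have := (H d).lfp inferInstance
    infer_instance
  have hHaff : IsAffineHom (H d).obj.hom := by
    rw [← Over.w (H d).p]
    have := (H d).affine
    infer_instance
  let Hh := (H d).obj.hom
  haveI : IsAffine (pullback Hh jU) := isAffine_of_isAffineHom (pullback.snd Hh jU)
  let E₀ : CommRingCat.{u} := Γ(pullback Hh jU, ⊤)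
  let eE := (pullback Hh jU).isoSpec
  obtain ⟨ρ, hρ⟩ := Spec.map_surjective (eE.inv ≫ pullback.snd Hh jU)
  letI : Algebra R E₀ := ρ.hom.toAlgebra
  let iE : Spec E₀ ⟶ (H d).obj.left := eE.inv ≫ pullback.fst Hh jU
  have hsq : IsPullback iE (Spec.map (CommRingCat.ofHom (algebraMap R E₀))) Hh jU := by
    refine (IsPullback.of_hasPullback Hh jU).of_iso eE (Iso.refl _) (Iso.refl _) (Iso.refl _) ?_ ?_
      (by simp) (by simp)
    · simp [iE]
    · simp only [Iso.refl_hom, Category.comp_id]
      rw [← Iso.inv_comp_eq]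
      exact hρ.symm
  have hiE : IsOpenImmersion iE := MorphismProperty.of_isPullback (P := @IsOpenImmersion) hsq.flip inferInstance
  haveI : Algebra.FinitePresentation R E₀ := by
    have h1 : LocallyOfFinitePresentation (Spec.map (CommRingCat.ofHom (algebraMap R E₀))) :=
      MorphismProperty.of_isPullback (P := @LocallyOfFinitePresentation) hsq hHlfp
    rw [HasRingHomProperty.Spec_iff (P := @LocallyOfFinitePresentation)] at h1
    exact RingHom.finitePresentation_algebraMap.1 h1
  obtain ⟨ε₀, hε₀⟩ := Spec.map_surjective (hsq.lift hk.left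
    (Spec.map (CommRingCat.ofHom (algebraMap R k))) (Over.w hk))
  have hεE : Spec.map ε₀ ≫ iE = hk.left := by rw [hε₀]; exact hsq.lift_fst _ _ _
  let ε : E₀ →ₐ[R] k :=
    { ε₀.hom with
      commutes' := fun r => by
        have := hsq.lift_snd hk.left (Spec.map (CommRingCat.ofHom (algebraMap R k))) (Over.w hk)
        rw [← hε₀, ← Spec.map_comp] at this
        exact congr($(Spec.map_injective this).hom r) }
  let Q : PrimeSpectrum E₀ := ⟨RingHom.ker ε.toRingHom, RingHom.ker_isPrime _⟩
  haveI : Q.asIdeal.IsPrime := Q.isPrime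
  have hQp : Q.asIdeal.comap (algebraMap R E₀) = p.asIdeal := by
    ext r
    simp [Q, RingHom.mem_ker, k]
  refine ⟨d, hHlfp, iE Q, ?_, ?_⟩
  · rw [← Scheme.Hom.comp_apply, hsq.w, Scheme.Hom.comp_apply]
    congr 1
    exact PrimeSpectrum.ext hQp
  haveI : LocallyOfFinitePresentation (Spec.map (CommRingCat.ofHom (algebraMap R E₀)) ≫ jU) := by
    rw [← hsq.w]; infer_instance
  have hmem : Q ∈ (Spec.map (CommRingCat.ofHom (algebraMap R E₀)) ≫ jU).smoothLocus ↔ iE Q ∈ Hh.smoothLocus := by
    rw [← Scheme.Hom.mem_preimage, Scheme.Hom.preimage_smoothLocus_eq iE Hh]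
    simp only [hsq.w]
  refine hmem.1 ((mem_smoothLocus_specMap_comp jU Q).2 (isSmoothAt_of_lift Q.asIdeal ?_))
  intro A' _ _ _ J hJ hJfg β
  haveI : Q.asIdeal.IsPrime := Q.isPrime
  let EQ := Localization.AtPrime Q.asIdeal
  let π₁ : EQ →ₐ[R] k := IsLocalization.liftAlgHom (M := Q.asIdeal.primeCompl) (f := ε)
    fun y => isUnit_iff_ne_zero.2 fun h => y.2 h
  have hπ₁ : ∀ x, π₁ (algebraMap E₀ EQ x) = ε x := fun x => IsLocalization.lift_eq _ _
  have hπ₁s : Function.Surjective π₁ := by
    intro z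
    obtain ⟨a, b, hb, rfl⟩ := IsFractionRing.div_surjective (A := R ⧸ p.asIdeal) z
    obtain ⟨a, rfl⟩ := Ideal.Quotient.mk_surjective a
    obtain ⟨b, rfl⟩ := Ideal.Quotient.mk_surjective b
    have hbQ : algebraMap R E₀ b ∈ Q.asIdeal.primeCompl := fun h =>
      nonZeroDivisors.ne_zero hb (Ideal.Quotient.eq_zero_iff_mem.2 (hQp.le h))
    have hu := (IsLocalization.map_units EQ (⟨_, hbQ⟩ : Q.asIdeal.primeCompl))
    refine ⟨algebraMap R EQ a * (hu.unit⁻¹ : EQˣ), ?_⟩
    have hbk : algebraMap (R ⧸ p.asIdeal) k (Ideal.Quotient.mk _ b) ≠ 0 :=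
      IsFractionRing.to_map_ne_zero_of_mem_nonZeroDivisors hb
    rw [eq_div_iff hbk, show algebraMap (R ⧸ p.asIdeal) k (Ideal.Quotient.mk _ b) =
      π₁ (algebraMap E₀ EQ (algebraMap R E₀ b)) by rw [hπ₁, ε.commutes]; rfl, ← map_mul, mul_assoc,
      IsUnit.val_inv_mul, mul_one, π₁.commutes]
    rfl
  let α : E₀ →ₐ[R] A' ⧸ J := β.symm.toAlgHom.comp (IsScalarTower.toAlgHom R E₀ EQ)
  let h : chartObj jU (A' ⧸ J) ⟶ (H d).obj :=
    Over.homMk (Spec.map (CommRingCat.ofHom α.toRingHom) ≫ iE) (by
      change (_ ≫ iE) ≫ Hh = Spec.map _ ≫ jU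
      rw [Category.assoc, hsq.w, ← Spec.map_comp_assoc, ← CommRingCat.ofHom_comp,
        show α.toRingHom.comp (algebraMap R E₀) = algebraMap R (A' ⧸ J) from α.comp_algebraMap])
  let π : (A' ⧸ J) →ₐ[R] k := π₁.comp β.toAlgHom
  have hhk : chartMap jU π ≫ h = hk := by
    refine Over.OverMorphism.ext ?_
    change Spec.map _ ≫ Spec.map _ ≫ iE = hk.left
    rw [← Spec.map_comp_assoc, ← hεE]
    congr 2
    apply CommRingCat.hom_ext
    refine RingHom.ext fun x => ?_
    show π₁ (β (β.symm (algebraMap E₀ EQ x))) = ε x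
    rw [β.apply_symm_apply, hπ₁]
  obtain ⟨h', hh'⟩ := exists_lift_point hG J hJ hJfg h π (hπ₁s.comp β.surjective) bk Φ
    Ideal.Quotient.mk_surjective f (Ideal.mk_ker) hreg (hhk ▸ hP)
  have hw : h'.left ≫ Hh = Spec.map (CommRingCat.ofHom (algebraMap R A')) ≫ jU := Over.w h'
  obtain ⟨α₀, hα₀⟩ := Spec.map_surjective (hsq.lift h'.left _ hw)
  let α' : E₀ →ₐ[R] A' :=
    { α₀.hom with
      commutes' := fun r => by
        have := hsq.lift_snd h'.left _ hw
        rw [← hα₀, ← Spec.map_comp] at this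
        exact congr($(Spec.map_injective this).hom r) }
  refine ⟨α', fun x => ?_⟩
  have e := congrArg CommaMorphism.left hh'
  change Spec.map _ ≫ h'.left = Spec.map _ ≫ iE at e
  rw [← hsq.lift_fst h'.left _ hw, ← hα₀, ← Spec.map_comp_assoc, cancel_mono] at e
  have := congr($(Spec.map_injective e).hom x)
  change Ideal.Quotient.mk J (α' x) = α x at this
  rw [this]
  exact β.apply_symm_apply _

/-- Over every point of the base some hom-scheme has a smooth point. -/
theorem exists_mem_smoothLocus (H : ∀ d, HomRep (zπ (d + 1) S) G)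
    [IsAffineHom G.hom] [Flat G.hom] [LocallyOfFinitePresentation G.hom] [Surjective G.hom] (s : S) :
    ∃ (d : ℕ) (_ : LocallyOfFinitePresentation (H d).obj.hom) (x : ↥(H d).obj.left),
      (H d).obj.hom x = s ∧ x ∈ (H d).obj.hom.smoothLocus := by
  obtain ⟨U, hU, hsU, -⟩ := exists_isAffineOpen_mem_and_subset (X := S) (x := s) (U := ⊤) trivial
  let jU := hU.fromSpec
  haveI : IsAffine (pullback G.hom jU) := isAffine_of_isAffineHom (pullback.snd G.hom jU)
  let eC := (pullback G.hom jU).isoSpec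
  obtain ⟨ρ, hρ⟩ := Spec.map_surjective (eC.inv ≫ pullback.snd G.hom jU)
  letI : Algebra Γ(S, U) Γ(pullback G.hom jU, ⊤) := ρ.hom.toAlgebra
  have hG : IsPullback (eC.inv ≫ pullback.fst G.hom jU)
      (Spec.map (CommRingCat.ofHom (algebraMap Γ(S, U) Γ(pullback G.hom jU, ⊤)))) G.hom jU := by
    refine (IsPullback.of_hasPullback G.hom jU).of_iso eC (Iso.refl _) (Iso.refl _) (Iso.refl _) ?_ ?_
      (by simp) (by simp)
    · simp
    · simp only [Iso.refl_hom, Category.comp_id]
      rw [← Iso.inv_comp_eq]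
      exact hρ.symm
  haveI : Module.Flat Γ(S, U) Γ(pullback G.hom jU, ⊤) := by
    have h := MorphismProperty.of_isPullback (P := @Flat) hG ‹_›
    rw [HasRingHomProperty.Spec_iff (P := @Flat)] at h
    exact RingHom.flat_algebraMap_iff.1 h
  haveI : Algebra.FinitePresentation Γ(S, U) Γ(pullback G.hom jU, ⊤) := by
    have h := MorphismProperty.of_isPullback (P := @LocallyOfFinitePresentation) hG ‹_›
    rw [HasRingHomProperty.Spec_iff (P := @LocallyOfFinitePresentation)] at h
    exact RingHom.finitePresentation_algebraMap.1 h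
  obtain ⟨p, hp⟩ : s ∈ Set.range jU := hU.range_fromSpec.symm ▸ hsU
  refine hp ▸ exists_mem_smoothLocus_chart H jU _ hG (fun q => ?_) p
  have hs : Surjective (Spec.map (CommRingCat.ofHom (algebraMap Γ(S, U) Γ(pullback G.hom jU, ⊤)))) :=
    MorphismProperty.of_isPullback (P := @Surjective) hG ‹_›
  obtain ⟨Q, hQ⟩ := hs.1 q
  exact (PrimeSpectrum.nontrivial_iff_mem_rangeComap q).2 ⟨Q, hQ⟩

end Groth.ArtinAtlas
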